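import Cfsg.Agent.Lib.J4Pres.Bound.Code
import Cfsg.Agent.Lib.J4Pres.Hom
import Cfsg.Agent.Lib.J4Pres.Bound.Data.TrioLevels
import Cfsg.Agent.Lib.Golay.Odd24

/-!
The stabiliser of the central trio is generated by the two elements centralising the third generator.
-/

set_option autoImplicit false
set_option maxRecDepth 100000

namespace Cfsg.Agent.J4Bound

open Cfsg Cfsg.Agent.PermCert Cfsg.Agent.Golay Cfsg.Agent.J4Pres
open scoped Pointwise

namespace TrioStab

/-- The code of `y x y (x y⁻¹) ^ 2 (x y) ^ 3`. -/
def cS : Elt :=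
  let a := cmul eltX (cinv eltY)
  let b := cmul eltX eltY
  cmul (cmul (cmul (cmul eltY eltX) eltY) (cmul (cmul cone a) a)) (cmul (cmul (cmul cone b) b) b)

theorem cd_x : Cd eltX gx := fun p => by
  have h : validElt 5 24 eltX = true := by
    have := elt_ok; simp only [Bool.and_eq_true] at this; exact this.1.1.1
  exact ⟨idx_permOf h p, by rw [Equiv.Perm.inv_def]; exact idx_permOf_symm h p⟩

theorem cd_y : Cd eltY gy := fun p => by
  have h : validElt 5 24 eltY = true := by
    have := elt_ok; simp only [Bool.and_eq_true] at this; exact this.1.2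
  exact ⟨idx_permOf h p, by rw [Equiv.Perm.inv_def]; exact idx_permOf_symm h p⟩

theorem cd_S : Cd cS TrioSystem.gS := by
  have ha := cd_x.mul cd_y.inv
  have hb := cd_x.mul cd_y
  have h := (((cd_y.mul cd_x).mul cd_y).mul ((cd_one.mul ha).mul ha)).mul (((cd_one.mul hb).mul hb).mul hb)
  convert h using 1
  · rfl
  · simp only [TrioSystem.gS, one_mul, pow_succ, pow_zero]

/-- The code of a word in the two generators. -/
def wordCode : List ℕ → Elt
  | [] => cone
  | i :: w => cmul (if i = 0 then eltX else if i = 1 then cS else cinv cS) (wordCode w)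

theorem word_spec : ∀ w : List ℕ,
    ∃ g ∈ Subgroup.closure {gx, TrioSystem.gS}, Cd (wordCode w) g
  | [] => ⟨1, one_mem _, cd_one⟩
  | i :: w => by
    obtain ⟨g, hg, hc⟩ := word_spec w
    have hx : gx ∈ Subgroup.closure ({gx, TrioSystem.gS} : Set M24) :=
      Subgroup.subset_closure (by simp)
    have hs : TrioSystem.gS ∈ Subgroup.closure ({gx, TrioSystem.gS} : Set M24) :=
      Subgroup.subset_closure (by simp)
    unfold wordCode
    split_ifs
    · exact ⟨gx * g, mul_mem hx hg, cd_x.mul hc⟩
    · exact ⟨_, mul_mem hs hg, cd_S.mul hc⟩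
    · exact ⟨_, mul_mem (inv_mem hs) hg, cd_S.inv.mul hc⟩

/-- The words of a level fix the earlier base points and move the base point to different places. -/
def okLevels : List ℕ → List (ℕ × List (List ℕ)) → Bool
  | _, [] => true
  | prev, (b, T) :: L =>
    Nat.blt b 24 && (T.all fun w => prev.all fun p => Nat.beq (get 5 (wordCode w).1 p) p) &&
      decide (T.map fun w => get 5 (wordCode w).1 b).Nodup && okLevels (b :: prev) L

/-- The product of the lengths of the levels. -/
def levelProd : List (ℕ × List (List ℕ)) → ℕ
  | [] => 1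
  | (_, T) :: L => T.length * levelProd L

theorem levels_spec : ∀ {L : List (ℕ × List (List ℕ))} {prev : List ℕ} (A : Subgroup M24),
    (∀ g, g ∈ A ↔ g ∈ Subgroup.closure {gx, TrioSystem.gS} ∧
      ∀ p ∈ prev, ∀ q : GolayPt, idx q = p → (g : Equiv.Perm GolayPt) q = q) →
    okLevels prev L = true → levelProd L ≤ Nat.card A := by
  intro L
  induction L with
  | nil => intro _ A _ _; show 1 ≤ Nat.card A; exact Nat.card_pos
  | cons l L ih =>
    obtain ⟨b, T⟩ := l
    intro prev A hA h
    simp only [okLevels, Bool.and_eq_true, Nat.blt_eq, List.all_eq_true, decide_eq_true_eq,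
      Nat.beq_eq] at h
    obtain ⟨⟨⟨hb, hfix⟩, hnd⟩, hL⟩ := h
    set p : GolayPt := pt ⟨b, hb⟩
    have hp : idx p = b := idx_pt _
    choose f hf hcd using word_spec
    have hmem : ∀ w ∈ T, f w ∈ A := fun w hw =>
      (hA _).2 ⟨hf w, fun q hq r hr => idx_injective (by
        rw [(hcd w r).1, hr]; exact hfix w hw q hq)⟩
    have horb : T.length ≤ Nat.card (MulAction.orbit A p) := by
      let F : Fin T.length → MulAction.orbit A p := fun i =>
        ⟨(⟨f (T.get i), hmem _ (T.get_mem i)⟩ : A) • p, MulAction.mem_orbit p _⟩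
      have hF : Function.Injective F := by
        intro i j hij
        have he := congrArg (fun z : MulAction.orbit A p => idx z.1) hij
        change idx (((f (T.get i) : M24) : Equiv.Perm GolayPt) p) =
          idx (((f (T.get j) : M24) : Equiv.Perm GolayPt) p) at he
        rw [(hcd _ p).1, (hcd _ p).1, hp] at he
        exact Fin.ext ((hnd.getElem_inj_iff (i := i.1) (j := j.1) (hi := by simp) (hj := by simp)).1
          (by simpa using he))
      simpa using Nat.card_le_card_of_injective F hF
    let B : Subgroup M24 := (MulAction.stabilizer A p).map A.subtype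
    have hB : ∀ g, g ∈ B ↔ g ∈ Subgroup.closure {gx, TrioSystem.gS} ∧
        ∀ q ∈ b :: prev, ∀ r : GolayPt, idx r = q → (g : Equiv.Perm GolayPt) r = r := by
      intro g
      constructor
      · rintro ⟨a, ha, rfl⟩
        obtain ⟨h1, h2⟩ := (hA _).1 a.2
        refine ⟨h1, fun q hq r hr => ?_⟩
        rcases List.mem_cons.1 hq with rfl | hq
        · obtain rfl : r = p := idx_injective (hr.trans hp.symm)
          exact ha
        · exact h2 q hq r hr
      · rintro ⟨h1, h2⟩
        refine ⟨⟨g, (hA g).2 ⟨h1, fun q hq => h2 q (List.mem_cons_of_mem _ hq)⟩⟩, ?_, rfl⟩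
        exact h2 b List.mem_cons_self p hp
    have hB' := ih B hB hL
    rw [levelProd]
    rw [(MulAction.stabilizer A p).card_eq_card_quotient_mul_card_subgroup,
      ← Nat.card_congr (MulAction.orbitEquivQuotientStabilizer A p),
      ← Subgroup.card_map_of_injective A.subtype_injective]
    exact Nat.mul_le_mul horb hB'

theorem levels_ok : okLevels [] Data.trioLevels = true := by decide +kernel

theorem levels_prod : levelProd Data.trioLevels = 64512 := by decide +kernel

/-- **An element fixing the central trio is a word in the two centralising elements.** -/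
theorem mem_closure_of_fix {g : M24} (h : (g : Equiv.Perm GolayPt) • trioW = trioW) :
    g ∈ Subgroup.closure {gx, TrioSystem.gS} := by
  have hle : Subgroup.closure {gx, TrioSystem.gS} ≤ MulAction.stabilizer M24 trioW := by
    rw [Subgroup.closure_le]
    rintro a (rfl | rfl)
    exacts [fix_W.1, fix_W.2.1]
  have hcard : Nat.card (MulAction.stabilizer M24 trioW) ≤
      Nat.card (Subgroup.closure {gx, TrioSystem.gS}) := by
    rw [Golay.Odd24.card_stab_trio trioW_mem, ← levels_prod]
    exact levels_spec _ (fun a => by simp) levels_ok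
  rw [Subgroup.eq_of_le_of_card_ge hle hcard]
  exact h

end TrioStab

end Cfsg.Agent.J4Bound
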