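import Cfsg.Agent.Lib.J4Pres.Bound.Rels
import Cfsg.Agent.Lib.J4Pres.Bound.TrioStab
import Cfsg.Prelude.Def_Spor_J4

/-!
The relations in the presented fourth Janko group, given the image of the Mathieu group.
-/

set_option autoImplicit false

namespace Cfsg.Agent.J4Bound

open Cfsg Cfsg.Agent.J4Pres
open scoped Pointwise

/-- The image of a word in the presented group. -/
def mkJ : FreeGroup Spor.J4.Gen →* Spor.J4 :=
  PresentedGroup.mk (Spor.coxRelators Spor.J4.edges ∪ {r | r ∈ Spor.J4.extra})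

/-- The image of `x`. -/
def jx : Spor.J4 := mkJ Spor.J4.x

/-- The image of `y`. -/
def jy : Spor.J4 := mkJ Spor.J4.y

/-- The image of `t`. -/
def jt : Spor.J4 := mkJ Spor.J4.t

theorem mkJ_extra {r : FreeGroup Spor.J4.Gen} (h : r ∈ Spor.J4.extra) : mkJ r = 1 :=
  PresentedGroup.one_of_mem (Or.inr h)

theorem jt_rels : jt * jt = 1 ∧
    jt⁻¹ * (jy * jx * jy * ((jx * jy⁻¹) ^ 2) * ((jx * jy) ^ 3))⁻¹ * jt *
      (jy * jx * jy * ((jx * jy⁻¹) ^ 2) * ((jx * jy) ^ 3)) = 1 ∧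
    jt⁻¹ * jx⁻¹ * jt * jx = 1 ∧
    (jy * ((jy * jx * jy⁻¹ * jx * jy * jx * jy⁻¹ * jx)⁻¹ * jt *
      (jy * jx * jy⁻¹ * jx * jy * jx * jy⁻¹ * jx))) ^ 3 = 1 ∧
    (((jy * jx * jy * jx * jy * jx * jy) ^ 3) * jt *
      ((((jx * jy) ^ 3) * jy * ((jx * jy) ^ 6) * jy)⁻¹ * jt *
        (((jx * jy) ^ 3) * jy * ((jx * jy) ^ 6) * jy))) ^ 2 = 1 := by
  refine ⟨?_, ?_, ?_, ?_, ?_⟩ <;> simp only [jx, jy, jt, ← map_mul, ← map_inv, ← map_pow] <;>
    refine mkJ_extra ?_ <;> simp [Spor.J4.extra, pow_two]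

section

variable (φ : M24 →* Spor.J4) (hx : φ gx = jx) (hy : φ gy = jy)
include hx hy

theorem comm_stab (g : M24) (hg : (g : Equiv.Perm GolayPt) • trioW = trioW) : φ g * jt = jt * φ g := by
  have h := TrioStab.mem_closure_of_fix hg
  obtain ⟨-, hs, hxc, -, -⟩ := jt_rels
  have key : ∀ a : Spor.J4, jt⁻¹ * a⁻¹ * jt * a = 1 → a * jt = jt * a := fun a ha => by
    calc a * jt = a * jt * (jt⁻¹ * a⁻¹ * jt * a) := by rw [ha, mul_one]
      _ = jt * a := by group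
  clear hg
  induction h using Subgroup.closure_induction with
  | mem a ha =>
    rcases ha with rfl | rfl
    · rw [hx]; exact key _ hxc
    · simp only [TrioSystem.gS, map_mul, map_pow, map_inv, hx, hy]; exact key _ hs
  | one => simp
  | mul a b _ _ iha ihb => rw [map_mul, mul_assoc, ihb, ← mul_assoc, iha, mul_assoc]
  | inv a _ iha =>
    rw [map_inv, eq_comm, eq_inv_mul_iff_mul_eq, ← mul_assoc, iha, mul_assoc, mul_inv_cancel, mul_one]

/-- The relations in the presented group. -/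
def j4Rels : Rels Spor.J4 where
  ψ := φ
  t := jt
  tt := jt_rels.1
  comm := comm_stab φ hx hy
  line := by
    simp only [TrioSystem.gLine, map_mul, map_inv, hx, hy]
    exact jt_rels.2.2.2.1
  last := by
    simp only [TrioSystem.gFour, TrioSystem.gLast, map_mul, map_pow, hx, hy]
    exact jt_rels.2.2.2.2

theorem j4Rels_gen : Subgroup.closure (Set.range (j4Rels φ hx hy).ψ ∪ {(j4Rels φ hx hy).t}) = ⊤ := by
  rw [eq_top_iff, ← PresentedGroup.closure_range_of (Spor.coxRelators Spor.J4.edges ∪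
    {r | r ∈ Spor.J4.extra}), Subgroup.closure_le]
  rintro _ ⟨g, rfl⟩
  cases g
  · exact Subgroup.subset_closure (Or.inl ⟨gx, hx⟩)
  · exact Subgroup.subset_closure (Or.inl ⟨gy, hy⟩)
  · exact Subgroup.subset_closure (Or.inr rfl)

theorem j4Rels_H : (j4Rels φ hx hy).H =
    (Subgroup.closure ({Spor.J4.x, Spor.J4.y,
      (Spor.J4.y * ((Spor.J4.y * Spor.J4.x) ^ 4 * Spor.J4.y⁻¹ * Spor.J4.x)⁻¹ * Spor.J4.t *
        ((Spor.J4.y * Spor.J4.x) ^ 4 * Spor.J4.y⁻¹ * Spor.J4.x)) ^ 3} :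
        Set (FreeGroup Spor.J4.Gen))).map
      (PresentedGroup.mk (Spor.coxRelators Spor.J4.edges ∪ {r | r ∈ Spor.J4.extra})) := by
  show _ = Subgroup.map mkJ _
  rw [MonoidHom.map_closure, Rels.H]
  have hv : (j4Rels φ hx hy).v = mkJ ((Spor.J4.y *
      ((Spor.J4.y * Spor.J4.x) ^ 4 * Spor.J4.y⁻¹ * Spor.J4.x)⁻¹ * Spor.J4.t *
        ((Spor.J4.y * Spor.J4.x) ^ 4 * Spor.J4.y⁻¹ * Spor.J4.x)) ^ 3) := by
    show (φ gy * (φ gTrans)⁻¹ * jt * φ gTrans) ^ 3 = _
    simp only [gTrans, map_mul, map_pow, map_inv, hx, hy]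
    rfl
  refine le_antisymm ((Subgroup.closure_le _).2 ?_) ((Subgroup.closure_le _).2 ?_)
  · rintro _ (⟨g, rfl⟩ | rfl)
    · have hg : g ∈ Subgroup.closure {gx, gy} := by rw [closure_gx_gy]; trivial
      refine (Subgroup.closure_le ((Subgroup.closure _).comap φ)).2 ?_ hg
      rintro a (rfl | rfl)
      · show φ gx ∈ Subgroup.closure _; rw [hx]; exact Subgroup.subset_closure ⟨Spor.J4.x, by simp, rfl⟩
      · show φ gy ∈ Subgroup.closure _; rw [hy]; exact Subgroup.subset_closure ⟨Spor.J4.y, by simp, rfl⟩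
    · exact hv.symm ▸ Subgroup.subset_closure ⟨_, by simp, rfl⟩
  · rintro _ ⟨a, ha, rfl⟩
    rcases ha with rfl | rfl | rfl
    · exact Subgroup.subset_closure (Or.inl ⟨gx, hx⟩)
    · exact Subgroup.subset_closure (Or.inl ⟨gy, hy⟩)
    · exact Subgroup.subset_closure (Or.inr (Set.mem_singleton_iff.2 hv.symm))

end

end Cfsg.Agent.J4Bound
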