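import Cfsg.Agent.Lib.J4Pres.Bound.Data.Items
import Cfsg.Agent.Lib.J4Pres.Bound.Data.Rels

/-! The certificate of the double coset enumeration. -/

set_option autoImplicit false

namespace Cfsg.Agent.J4Bound

/-- The certificate. -/
def cert : Cert := ⟨Data.items, Data.defs, Data.rels⟩

end Cfsg.Agent.J4Bound
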