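import Cfsg.Agent.Lib.J4Pres.Bound.Coset

/-!
Closure of a double coset enumeration: every trio is reached from the edges of every node, and the
stabilisers of the nodes are large.  Hence the index of the subgroup is bounded.
-/

set_option autoImplicit false
set_option maxRecDepth 4000

namespace Cfsg.Agent.J4Bound

open Cfsg Cfsg.Agent.PermCert Cfsg.Agent.Golay Cfsg.Agent.J4Pres
open scoped Pointwise

/-! ### The table of trios -/

/-- Three different masks below `2 ^ 24`. -/
def wfT3 (T : T3) : Bool :=
  Nat.blt T.1 16777216 && Nat.blt T.2.1 16777216 && Nat.blt T.2.2 16777216 &&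
    !Nat.beq T.1 T.2.1 && !Nat.beq T.1 T.2.2 && !Nat.beq T.2.1 T.2.2

theorem card_t3Set {T : T3} (h : wfT3 T = true) : (t3Set T).card = 3 := by
  simp only [wfT3, Bool.and_eq_true, Nat.blt_eq, Bool.not_eq_true'] at h
  obtain ⟨⟨⟨⟨⟨h1, h2⟩, h3⟩, e12⟩, e13⟩, e23⟩ := h
  have ne : ∀ {a b : ℕ}, Nat.beq a b = false → a ≠ b := fun he hab => by
    subst hab; simp at he
  refine Finset.card_eq_three.2 ⟨_, _, _, ?_, ?_, ?_, rfl⟩ <;> intro e
  · exact ne e12 (maskSet_inj (by simpa using h1) (by simpa using h2) e)
  · exact ne e13 (maskSet_inj (by simpa using h1) (by simpa using h3) e)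
  · exact ne e23 (maskSet_inj (by simpa using h2) (by simpa using h3) e)

/-- Entry `i` of the table is well formed and its images under the generators and their inverses are
entries. -/
def okRow (T : Tree (T3 × List ℕ)) (N i : ℕ) : Bool :=
  match T.get? i with
  | some (S, [a, b, c, d]) =>
    wfT3 S &&
    match T.get? a, T.get? b, T.get? c, T.get? d with
    | some (A, _), some (B, _), some (C, _), some (D, _) =>
      Nat.blt a N && Nat.blt b N && Nat.blt c N && Nat.blt d N &&
        carries eltX S A && carries (cinv eltX) S B && carries eltY S C && carries (cinv eltY) S D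
    | _, _, _, _ => false
  | _ => false

/-- The entry as a set of octads. -/
def entry (T : Tree (T3 × List ℕ)) (i : ℕ) : Finset (Finset GolayPt) :=
  match T.get? i with
  | some (S, _) => t3Set S
  | none => ∅

theorem cd_gx : Cd eltX gx := fun p => by
  have h : validElt 5 24 eltX = true := by
    have := elt_ok; simp only [Bool.and_eq_true] at this; exact this.1.1.1
  exact ⟨idx_permOf h p, by rw [Equiv.Perm.inv_def]; exact idx_permOf_symm h p⟩

theorem cd_gy : Cd eltY gy := fun p => by
  have h : validElt 5 24 eltY = true := by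
    have := elt_ok; simp only [Bool.and_eq_true] at this; exact this.1.2
  exact ⟨idx_permOf h p, by rw [Equiv.Perm.inv_def]; exact idx_permOf_symm h p⟩

theorem row_smul {T : Tree (T3 × List ℕ)} {N i : ℕ} (h : okRow T N i = true) {g : M24}
    (hg : g = gx ∨ g = gx⁻¹ ∨ g = gy ∨ g = gy⁻¹) :
    ∃ j < N, (g : Equiv.Perm GolayPt) • entry T i = entry T j := by
  unfold okRow at h
  unfold entry
  split at h
  · rename_i S a b c d heq
    simp only [Bool.and_eq_true] at h
    obtain ⟨hwf, h⟩ := h
    rw [heq]
    split at h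
    · rename_i A _ B _ C _ D _ e1 e2 e3 e4
      simp only [Bool.and_eq_true, Nat.blt_eq] at h
      obtain ⟨⟨⟨⟨⟨⟨⟨ha, hb⟩, hc⟩, hd⟩, cA⟩, cB⟩, cC⟩, cD⟩ := h
      have hS := card_t3Set hwf
      rcases hg with rfl | rfl | rfl | rfl
      · exact ⟨a, ha, by rw [e1]; exact carries_smul cd_gx cA hS⟩
      · exact ⟨b, hb, by rw [e2]; exact carries_smul cd_gx.inv cB hS⟩
      · exact ⟨c, hc, by rw [e3]; exact carries_smul cd_gy cC hS⟩
      · exact ⟨d, hd, by rw [e4]; exact carries_smul cd_gy.inv cD hS⟩
    · exact absurd h (by simp)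
  · exact absurd h (by simp)

/-- The table starts at the central trio and is closed. -/
def okTable (T : Tree (T3 × List ℕ)) (N : ℕ) : Prop :=
  entry T 0 = trioW ∧ 0 < N ∧ ∀ i < N, okRow T N i = true

theorem table_complete {T : Tree (T3 × List ℕ)} {N : ℕ} (h : okTable T N) (g : M24) :
    ∃ i < N, (g : Equiv.Perm GolayPt) • trioW = entry T i := by
  have hg : g ∈ Subgroup.closure {gx, gy} := by rw [closure_gx_gy]; trivial
  induction hg using Subgroup.closure_induction_left with
  | one => exact ⟨0, h.2.1, by simp [h.1]⟩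
  | mul_left a ha b _ ih =>
    obtain ⟨i, hi, e⟩ := ih
    obtain ⟨j, hj, e'⟩ := row_smul (h.2.2 i hi) (g := a) (by
      rcases ha with rfl | rfl
      exacts [Or.inl rfl, Or.inr (Or.inr (Or.inl rfl))])
    exact ⟨j, hj, by rw [Subgroup.coe_mul, mul_smul, e, e']⟩
  | inv_mul_cancel a ha b _ ih =>
    obtain ⟨i, hi, e⟩ := ih
    obtain ⟨j, hj, e'⟩ := row_smul (h.2.2 i hi) (g := a⁻¹) (by
      rcases ha with rfl | rfl
      exacts [Or.inr (Or.inl rfl), Or.inr (Or.inr (Or.inr rfl))])
    exact ⟨j, hj, by rw [Subgroup.coe_mul, mul_smul, e, e']⟩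

/-! ### Visits -/

/-- How a trio is reached: from an edge, or from a reached trio by a stabilising fact. -/
inductive Src where
  | edge (f : ℕ) (fl : Bool) : Src
  | gen (pred : ℕ) (r : ℕ × Bool) : Src

variable (C : Cert)

/-- Check one visit given the set of visited trios. -/
def okVisit (T : Tree (T3 × List ℕ)) (N n m k seen : ℕ) (v : ℕ × Src) : Bool :=
  match v.2, T.get? v.1 with
  | .edge f fl, some (A, _) =>
    match edge? C n f fl with
    | some (k', a, j, _) => Nat.beq k' k && Nat.blt j m && carries a wMasks A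
    | none => false
  | .gen pred r, some (A, _) =>
    match T.get? pred, factor? C n k r with
    | some (P, _), some σ => Nat.blt pred N && seen.testBit pred && wfT3 P && carries σ P A
    | _, _ => false
  | _, none => false

/-- Check a list of visits; the value is the set of visited trios. -/
def visit (T : Tree (T3 × List ℕ)) (N n m k : ℕ) : List (ℕ × Src) → ℕ → Option ℕ
  | [], seen => some seen
  | v :: vs, seen =>
    bif okVisit C T N n m k seen v then visit T N n m k vs (seen ||| 1 <<< v.1) else none

/-- All trios are visited. -/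
def okCover (T : Tree (T3 × List ℕ)) (N n m k : ℕ) (vs : List (ℕ × Src)) : Bool :=
  match visit C T N n m k vs 0 with
  | some seen => Nat.beq seen (2 ^ N - 1)
  | none => false

/-! ### Levels -/

/-- The elements of a list of products of stabilising factors. -/
def sigmas? (n k : ℕ) : List (List (ℕ × Bool)) → Option (List Elt)
  | [] => some []
  | r :: rs =>
    match sigma? C n k r, sigmas? n k rs with
    | some e, some es => some (e :: es)
    | _, _ => none

theorem sigmas?_spec {n k : ℕ} : ∀ {rs : List (List (ℕ × Bool))} {es : List Elt},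
    sigmas? C n k rs = some es → es.length = rs.length ∧ ∀ e ∈ es, ∃ r, sigma? C n k r = some e := by
  intro rs
  induction rs with
  | nil => intro es h; rw [sigmas?] at h; obtain rfl := Option.some.inj h; simp
  | cons r rs ih =>
    intro es h
    unfold sigmas? at h
    split at h
    · rename_i e es' h1 h2
      obtain rfl := Option.some.inj h
      obtain ⟨hl, hm⟩ := ih h2
      refine ⟨by simp [hl], fun x hx => ?_⟩
      rcases List.mem_cons.1 hx with rfl | hx
      exacts [⟨r, h1⟩, hm x hx]
    · cases h

/-- The elements of a level fix the earlier base points and move the base point to different places. -/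
def okLevels (n k : ℕ) : List ℕ → List (ℕ × List (List (ℕ × Bool))) → Bool
  | _, [] => true
  | prev, (b, T) :: L =>
    Nat.blt b 24 &&
      (match sigmas? C n k T with
      | some es =>
        es.all (fun e => prev.all fun p => Nat.beq (get 5 e.1 p) p) &&
          decide (es.map fun e => get 5 e.1 b).Nodup
      | none => false)
    && okLevels n k (b :: prev) L

/-- The product of the lengths of the levels. -/
def levelProd : List (ℕ × List (List (ℕ × Bool))) → ℕ
  | [] => 1
  | (_, T) :: L => T.length * levelProd L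

section sound

variable {G : Type*} [Group G] {C} (S : Setup C G)

namespace Setup

/-- The stabiliser of a node. -/
noncomputable def K (k : ℕ) : Subgroup M24 where
  carrier := {g | S.Stab k g}
  one_mem' := S.stab_one k
  mul_mem' := S.stab_mul
  inv_mem' := S.stab_inv

theorem mem_K {k : ℕ} {g : M24} : g ∈ S.K k ↔ S.Stab k g := Iff.rfl

/-- A trio is reached from the node. -/
def Reached (m k : ℕ) (τ : Finset (Finset GolayPt)) : Prop :=
  ∃ (σ a : M24) (j : ℕ) (b : M24), S.Stab k σ ∧ S.Edge k a j b ∧
    ((σ * a : M24) : Equiv.Perm GolayPt) • trioW = τ ∧ j < m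

theorem visit_spec {T : Tree (T3 × List ℕ)} {N n m k : ℕ} (hn : S.GoodBelow n) :
    ∀ {vs : List (ℕ × Src)} {seen res : ℕ}, visit C T N n m k vs seen = some res →
      (∀ i < N, seen.testBit i = true → S.Reached m k (entry T i)) →
      ∀ i < N, res.testBit i = true → S.Reached m k (entry T i) := by
  intro vs
  induction vs with
  | nil => intro seen res h hs; rw [visit] at h; obtain rfl := Option.some.inj h; exact hs
  | cons v vs ih =>
    intro seen res h hs
    rw [visit] at h
    cases hv : okVisit C T N n m k seen v with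
    | false => rw [hv] at h; cases h
    | true =>
      rw [hv] at h
      refine ih h fun i hi hbit => ?_
      rw [Nat.testBit_or, Bool.or_eq_true] at hbit
      rcases hbit with hbit | hbit
      · exact hs i hi hbit
      obtain rfl : v.1 = i := by
        rw [Nat.one_shiftLeft, Nat.testBit_two_pow] at hbit
        simpa using hbit
      unfold okVisit at hv
      split at hv
      · rename_i f fl A _ hget
        split at hv
        · rename_i k' a j b he
          simp only [Bool.and_eq_true, Nat.beq_eq, Nat.blt_eq] at hv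
          obtain ⟨⟨rfl, hjm⟩, hc⟩ := hv
          obtain ⟨ga, gb, ha, -, hE⟩ := S.edge_spec hn he
          refine ⟨1, ga, j, gb, S.stab_one _, hE, ?_, hjm⟩
          rw [entry, hget, one_mul, ← t3Set_w]
          exact carries_smul ha hc trioW_mem.1
        · exact absurd hv (by simp)
      · rename_i pred r A _ _ hget
        split at hv
        · rename_i P _ σ hp hσ
          simp only [Bool.and_eq_true, Nat.blt_eq] at hv
          obtain ⟨⟨⟨hpN, hseen⟩, hwf⟩, hc⟩ := hv
          obtain ⟨gs, hgs, hst⟩ := S.factor_spec hn hσ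
          obtain ⟨σ', a, j, b, hσ', hE, hτ, hd⟩ := hs pred hpN hseen
          refine ⟨gs * σ', a, j, b, S.stab_mul hst hσ', hE, ?_, hd⟩
          rw [mul_assoc, Subgroup.coe_mul, mul_smul, hτ, entry, entry, hget, hp]
          exact carries_smul hgs hc (card_t3Set hwf)
        · exact absurd hv (by simp)
      · exact absurd hv (by simp)

theorem cover_spec {T : Tree (T3 × List ℕ)} {N n m k : ℕ} {vs : List (ℕ × Src)} (hT : okTable T N)
    (hn : S.GoodBelow n) (h : okCover C T N n m k vs = true) (g : M24) :
    S.Reached m k ((g : Equiv.Perm GolayPt) • trioW) := by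
  unfold okCover at h
  split at h
  · rename_i seen hseen
    have hres := Nat.eq_of_beq_eq_true h
    obtain ⟨i, hi, e⟩ := table_complete hT g
    rw [e]
    exact S.visit_spec hn hseen (fun j _ hj => absurd hj (by simp)) i hi
      (by rw [hres, Nat.testBit_two_pow_sub_one]; simpa using hi)
  · exact absurd h (by simp)

theorem levels_spec {n k : ℕ} (hn : S.GoodBelow n) :
    ∀ {prev : List ℕ} {L : List (ℕ × List (List (ℕ × Bool)))} (A : Subgroup M24),
      (∀ g, g ∈ A ↔ S.Stab k g ∧ ∀ p ∈ prev, ∀ q : GolayPt, idx q = p →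
        (g : Equiv.Perm GolayPt) q = q) →
      okLevels C n k prev L = true → levelProd L ≤ Nat.card A := by
  intro prev L
  induction L generalizing prev with
  | nil => intro A _ _; show 1 ≤ Nat.card A; exact Nat.card_pos
  | cons l L ih =>
    obtain ⟨b, T⟩ := l
    intro A hA h
    simp only [okLevels, Bool.and_eq_true, Nat.blt_eq] at h
    obtain ⟨⟨hb, hT⟩, hL⟩ := h
    split at hT
    · rename_i es hes
      simp only [Bool.and_eq_true, List.all_eq_true, decide_eq_true_eq, Nat.beq_eq] at hT
      obtain ⟨hfix, hnd⟩ := hT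
      set p : GolayPt := pt ⟨b, hb⟩
      have hp : idx p = b := idx_pt _
      have hmem : ∀ e ∈ es, ∃ g : M24, Cd e g ∧ g ∈ A := by
        intro e he
        obtain ⟨w, hwe⟩ := (sigmas?_spec C hes).2 e he
        obtain ⟨g, hg, hst⟩ := S.sigma_spec hn hwe
        refine ⟨g, hg, (hA g).2 ⟨hst, fun q hq r hr => idx_injective ?_⟩⟩
        rw [(hg r).1, hr]
        exact hfix e he q hq
      choose f hf using hmem
      let φ : MulAction.orbit A p → GolayPt := Subtype.val
      have hlen : es.length = T.length := by
        exact (sigmas?_spec C hes).1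
      have horb : T.length ≤ Nat.card (MulAction.orbit A p) := by
        let F : Fin es.length → MulAction.orbit A p := fun i =>
          ⟨(⟨f _ (es.get_mem i), (hf _ (es.get_mem i)).2⟩ : A) • p, MulAction.mem_orbit p _⟩
        have hF : Function.Injective F := by
          intro i j hij
          have he := congrArg (fun z : MulAction.orbit A p => idx z.1) hij
          change idx (((f _ (es.get_mem i) : M24) : Equiv.Perm GolayPt) p) =
            idx (((f _ (es.get_mem j) : M24) : Equiv.Perm GolayPt) p) at he
          rw [((hf _ (es.get_mem i)).1 p).1, ((hf _ (es.get_mem j)).1 p).1, hp] at he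
          exact Fin.ext ((hnd.getElem_inj_iff (i := i.1) (j := j.1) (hi := by simp) (hj := by simp)).1
            (by simpa using he))
        have := Nat.card_le_card_of_injective F hF
        simpa [hlen] using this
      let B : Subgroup M24 := (MulAction.stabilizer A p).map A.subtype
      have hB : ∀ g, g ∈ B ↔ S.Stab k g ∧ ∀ q ∈ b :: prev, ∀ r : GolayPt, idx r = q →
          (g : Equiv.Perm GolayPt) r = r := by
        intro g
        constructor
        · rintro ⟨a, ha, rfl⟩
          obtain ⟨h1, h2⟩ := (hA _).1 a.2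
          refine ⟨h1, fun q hq r hr => ?_⟩
          rcases List.mem_cons.1 hq with rfl | hq
          · obtain rfl : r = p := idx_injective (hr.trans hp.symm)
            exact ha
          · exact h2 q hq r hr
        · rintro ⟨h1, h2⟩
          refine ⟨⟨g, (hA g).2 ⟨h1, fun q hq => h2 q (List.mem_cons_of_mem _ hq)⟩⟩, ?_, rfl⟩
          exact h2 b List.mem_cons_self p hp
      have hB' := ih B hB hL
      rw [levelProd, ← Nat.card_congr (MulAction.orbitEquivQuotientStabilizer A p).symm] at *
      rw [(MulAction.stabilizer A p).card_eq_card_quotient_mul_card_subgroup,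
        ← Subgroup.card_map_of_injective A.subtype_injective]
      exact Nat.mul_le_mul horb hB'
    · exact absurd hT (by simp)

/-- **The index bound.** -/
theorem finite_and_index_le {T : Tree (T3 × List ℕ)} {N n m : ℕ} (visits : ℕ → List (ℕ × Src))
    (sizes : ℕ → ℕ) (hT : okTable T N) (hn : S.GoodBelow n)
    (hcov : ∀ k < m, okCover C T N n m k (visits k) = true)
    (hm : 0 < m) (hsize : ∀ k < m, sizes k ≤ Nat.card (S.K k)) (hpos : ∀ k < m, 0 < sizes k)
    (hgen : Subgroup.closure (Set.range S.ψ ∪ {S.t}) = ⊤) :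
    S.H.index ≠ 0 ∧ S.H.index ≤ ∑ k ∈ Finset.range m, Nat.card M24 / sizes k := by
  let P : G → Prop := fun u => ∃ k < m, ∃ g : M24, u * (S.X k * S.ψ g)⁻¹ ∈ S.H
  have hψ : ∀ u (g : M24), P u → P (u * S.ψ g) := by
    rintro u g ⟨k, hk, h, hu⟩
    refine ⟨k, hk, h * g, ?_⟩
    convert hu using 1
    rw [map_mul]; group
  have ht : ∀ u, P u → P (u * S.t) := by
    rintro u ⟨k, hk, h, hu⟩
    obtain ⟨σ, a, j, b, hσ, hE, hτ, hj⟩ := S.cover_spec hT hn (hcov k hk) h
    have hfix : (((σ * a)⁻¹ * h : M24) : Equiv.Perm GolayPt) • trioW = trioW := by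
      rw [Subgroup.coe_mul, mul_smul, ← hτ, Subgroup.coe_inv, inv_smul_smul]
    set c := (σ * a)⁻¹ * h with hc
    have hcm := S.comm c hfix
    refine ⟨j, hj, b * c, ?_⟩
    have key := mul_mem (mul_mem hu hσ) hE
    convert key using 1
    have hgp : S.ψ h = S.ψ σ * S.ψ a * S.ψ c := by rw [← map_mul, ← map_mul, hc]; group
    have hct : S.t * (S.ψ c)⁻¹ = (S.ψ c)⁻¹ * S.t := by
      rw [eq_inv_mul_iff_mul_eq, ← mul_assoc, hcm, mul_assoc, mul_inv_cancel, mul_one]
    rw [map_mul, hgp]
    calc u * S.t * (S.X j * (S.ψ b * S.ψ c))⁻¹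
        = u * (S.t * (S.ψ c)⁻¹) * (S.ψ b)⁻¹ * (S.X j)⁻¹ := by group
      _ = u * ((S.ψ c)⁻¹ * S.t) * (S.ψ b)⁻¹ * (S.X j)⁻¹ := by rw [hct]
      _ = _ := by group
  have hall : ∀ u, P u := by
    intro u
    have hu : u ∈ Subgroup.closure (Set.range S.ψ ∪ {S.t}) := by rw [hgen]; trivial
    induction hu using Subgroup.closure_induction_right with
    | one => exact ⟨0, hm, 1, by simp [S.X_zero]⟩
    | mul_right a _ b hb ih =>
      rcases hb with ⟨g, rfl⟩ | rfl
      exacts [hψ a g ih, ht a ih]
    | mul_inv_cancel a _ b hb ih =>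
      rcases hb with ⟨g, rfl⟩ | rfl
      · rw [← map_inv]; exact hψ a g⁻¹ ih
      · rw [S.tinv]; exact ht a ih
  let F : (Σ k : Fin m, M24 ⧸ S.K k) → G ⧸ S.H := fun z =>
    Quotient.liftOn' z.2 (fun g => ((S.ψ g * (S.X z.1)⁻¹ : G) : G ⧸ S.H)) fun g h hgh => by
      rw [QuotientGroup.leftRel_apply, mem_K] at hgh
      refine QuotientGroup.eq.2 ?_
      unfold Stab at hgh
      convert hgh using 1
      rw [map_mul, map_inv]; group
  have hF : Function.Surjective F := by
    intro q
    obtain ⟨w, rfl⟩ := QuotientGroup.mk_surjective q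
    obtain ⟨k, hk, g, hg⟩ := hall w⁻¹
    refine ⟨⟨⟨k, hk⟩, ((g⁻¹ : M24) : M24 ⧸ S.K k)⟩, QuotientGroup.eq.2 ?_⟩
    convert inv_mem hg using 1
    rw [map_inv]; group
  have : Finite (G ⧸ S.H) := Finite.of_surjective F hF
  refine ⟨Subgroup.index_ne_zero_of_finite, ?_⟩
  rw [Subgroup.index]
  refine le_trans (Nat.card_le_card_of_surjective F hF) ?_
  rw [Nat.card_sigma, Finset.sum_range fun k => Nat.card M24 / sizes k]
  refine Finset.sum_le_sum fun k _ => ?_
  rw [Nat.le_div_iff_mul_le (hpos k k.2), ← (S.K k).index_mul_card, Subgroup.index]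
  exact Nat.mul_le_mul_left _ (hsize k k.2)

end Setup

end sound

end Cfsg.Agent.J4Bound
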