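import Cfsg.Agent.Lib.J4Pres.Bound.Rels
import Cfsg.Agent.Lib.J4Pres.Bound.Check.Items0
import Cfsg.Agent.Lib.J4Pres.Bound.Check.Items1
import Cfsg.Agent.Lib.J4Pres.Bound.Check.Items2
import Cfsg.Agent.Lib.J4Pres.Bound.Check.Items3
import Cfsg.Agent.Lib.J4Pres.Bound.Check.Items4
import Cfsg.Agent.Lib.J4Pres.Bound.Check.Items5
import Cfsg.Agent.Lib.J4Pres.Bound.Check.Items6
import Cfsg.Agent.Lib.J4Pres.Bound.Check.Items7
import Cfsg.Agent.Lib.J4Pres.Bound.Check.Table0
import Cfsg.Agent.Lib.J4Pres.Bound.Check.Table1
import Cfsg.Agent.Lib.J4Pres.Bound.Check.Table2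
import Cfsg.Agent.Lib.J4Pres.Bound.Check.Table3
import Cfsg.Agent.Lib.J4Pres.Bound.Check.Nodes0
import Cfsg.Agent.Lib.J4Pres.Bound.Check.Nodes1
import Cfsg.Agent.Lib.J4Pres.Bound.Check.Nodes2
import Cfsg.Agent.Lib.J4Pres.Bound.Check.Nodes3
import Cfsg.Agent.Lib.J4Pres.Bound.Check.Nodes4

/-!
The index of `⟨x, y, translation⟩` in a group generated by an image of the Mathieu group and an
involution with the two long relators is at most 173067389.
-/

set_option autoImplicit false
set_option maxRecDepth 100000

namespace Cfsg.Agent.J4Bound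

open Cfsg Cfsg.Agent.PermCert Cfsg.Agent.Golay Cfsg.Agent.J4Pres
open scoped Pointwise

/-- A power of a code. -/
def cpow (a : Elt) : ℕ → Elt
  | 0 => cone
  | n + 1 => cmul (cpow a n) a

theorem Cd.pow {a : Elt} {g : M24} (h : Cd a g) : ∀ n, Cd (cpow a n) (g ^ n)
  | 0 => by rw [pow_zero]; exact cd_one
  | n + 1 => by rw [pow_succ]; exact (Cd.pow h n).mul h

/-- The code of the conjugator of the translated line relator. -/
def cLine : Elt :=
  cmul (cmul (cmul (cmul (cmul (cmul (cmul eltY eltX) (cinv eltY)) eltX) eltY) eltX) (cinv eltY)) eltX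

/-- The code of the element of order four. -/
def cFour : Elt := cpow (cmul (cmul (cmul (cmul (cmul (cmul eltY eltX) eltY) eltX) eltY) eltX) eltY) 3

/-- The code of the conjugator of the last relator. -/
def cLast : Elt :=
  cmul (cmul (cmul (cpow (cmul eltX eltY) 3) eltY) (cpow (cmul eltX eltY) 6)) eltY

/-- The code of the conjugator in the translation. -/
def cTrans : Elt := cmul (cmul (cpow (cmul eltY eltX) 4) (cinv eltY)) eltX

theorem cd_line : Cd cLine TrioSystem.gLine :=
  ((((((cd_gy.mul cd_gx).mul cd_gy.inv).mul cd_gx).mul cd_gy).mul cd_gx).mul cd_gy.inv).mul cd_gx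

theorem cd_four : Cd cFour TrioSystem.gFour :=
  ((((((cd_gy.mul cd_gx).mul cd_gy).mul cd_gx).mul cd_gy).mul cd_gx).mul cd_gy).pow 3

theorem cd_last : Cd cLast TrioSystem.gLast :=
  ((((cd_gx.mul cd_gy).pow 3).mul cd_gy).mul ((cd_gx.mul cd_gy).pow 6)).mul cd_gy

theorem cd_trans : Cd cTrans gTrans := (((cd_gy.mul cd_gx).pow 4).mul cd_gy.inv).mul cd_gx

/-- The syllables of `(y * w⁻¹ * t * w) ^ 3`. -/
def cubeSyls (w : Elt) : List Syl :=
  [some (cmul eltY (cinv w)), none, some (cmul (cmul w eltY) (cinv w)), none,
    some (cmul (cmul w eltY) (cinv w)), none, some w]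

/-- The syllables of the last relator. -/
def lastSyls : List Syl :=
  [some cFour, none, some (cinv cLast), none, some (cmul cLast cFour), none, some (cinv cLast), none,
    some cLast]

theorem rels_eq : Data.rels = [(lastSyls, false), (lastSyls.drop 2 ++ lastSyls.take 2, false),
    (cubeSyls cLine, false), (cubeSyls cTrans, true)] := by decide +kernel

theorem val_rotate {G : Type*} [Group G] {ψ : M24 →* G} {t : G} {L : List Syl} (n : ℕ)
    (h : Val ψ t L 1) : Val ψ t (L.drop n ++ L.take n) 1 := by
  rw [← List.take_append_drop n L] at h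
  obtain ⟨a, b, ha, hb, e⟩ := h.split
  have := hb.append ha
  rwa [show b * a = 1 from mul_eq_one_comm.1 e.symm] at this

namespace Rels

variable {G : Type*} [Group G] (R : Rels G)

theorem val_cube {w : Elt} {g : M24} (hw : Cd w g) :
    Val R.ψ R.t (cubeSyls w) ((R.ψ gy * (R.ψ g)⁻¹ * R.t * R.ψ g) ^ 3) := by
  have h := (((((((Val.nil (ψ := R.ψ) (t := R.t)).elt hw).tt).elt
    ((hw.mul cd_gy).mul hw.inv)).tt).elt ((hw.mul cd_gy).mul hw.inv)).tt).elt (cd_gy.mul hw.inv)
  convert h using 1
  · rfl
  simp only [map_mul, map_inv, pow_succ, pow_zero, one_mul]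
  group

theorem val_last : Val R.ψ R.t lastSyls
    ((R.ψ TrioSystem.gFour * R.t * ((R.ψ TrioSystem.gLast)⁻¹ * R.t * R.ψ TrioSystem.gLast)) ^ 2) := by
  have h := (((((((((Val.nil (ψ := R.ψ) (t := R.t)).elt cd_last).tt).elt cd_last.inv).tt).elt
    (cd_last.mul cd_four)).tt).elt cd_last.inv).tt).elt cd_four
  convert h using 1
  · rfl
  simp only [map_mul, map_inv, pow_succ, pow_zero, one_mul]
  group

theorem rels_val : ∀ L toH, (L, toH) ∈ cert.rels →
    ∃ v, Val R.ψ R.t L v ∧ (toH = false → v = 1) ∧ v ∈ R.H := by
  intro L toH h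
  rw [show cert.rels = Data.rels from rfl, rels_eq] at h
  have h3 : Val R.ψ R.t lastSyls 1 := R.last ▸ R.val_last
  have hl : (R.ψ gy * (R.ψ TrioSystem.gLine)⁻¹ * R.t * R.ψ TrioSystem.gLine) ^ 3 = 1 := by
    rw [← R.line]; group
  simp only [List.mem_cons, Prod.mk.injEq, List.not_mem_nil, or_false] at h
  rcases h with ⟨rfl, rfl⟩ | ⟨rfl, rfl⟩ | ⟨rfl, rfl⟩ | ⟨rfl, rfl⟩
  · exact ⟨1, h3, fun _ => rfl, one_mem _⟩
  · exact ⟨1, val_rotate 2 h3, fun _ => rfl, one_mem _⟩
  · exact ⟨_, R.val_cube cd_line, fun _ => hl, hl ▸ one_mem _⟩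
  · exact ⟨R.v, R.val_cube cd_trans, fun hf => absurd hf (by simp), R.v_mem_H⟩

/-- The enumeration's data in the group. -/
def setup : Setup cert G where
  ψ := R.ψ
  t := R.t
  H := R.H
  tt := R.tt
  comm := R.comm
  mem := R.psi_mem_H
  rel := R.rels_val

theorem good : (R.setup).GoodBelow 1874 := by
  refine (R.setup).good_of_ok fun i hi => ?_
  have key : ∀ lo len, okItems cert lo len = true → lo ≤ i → i < lo + len → okItem cert i = true :=
    fun lo len h h1 h2 => by
      have := allBelow_spec _ _ h (i - lo) (by omega)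
      rwa [show lo + (i - lo) = i by omega] at this
  by_cases h0 : i < 235
  · exact key 0 235 Check.items0 (by omega) (by omega)
  by_cases h1 : i < 470
  · exact key 235 235 Check.items1 (by omega) (by omega)
  by_cases h2 : i < 705
  · exact key 470 235 Check.items2 (by omega) (by omega)
  by_cases h3 : i < 940
  · exact key 705 235 Check.items3 (by omega) (by omega)
  by_cases h4 : i < 1175
  · exact key 940 235 Check.items4 (by omega) (by omega)
  by_cases h5 : i < 1410
  · exact key 1175 235 Check.items5 (by omega) (by omega)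
  by_cases h6 : i < 1645
  · exact key 1410 235 Check.items6 (by omega) (by omega)
  exact key 1645 229 Check.items7 (by omega) (by omega)

theorem table_ok : okTable Data.table 3795 := by
  refine ⟨?_, by norm_num, fun i hi => ?_⟩
  · rw [← t3Set_w]
    show (match Data.table.get? 0 with | some (S, _) => t3Set S | none => ∅) = t3Set wMasks
    rw [show Data.table.get? 0 = some (wMasks, (Data.table.get? 0).elim [] Prod.snd) from by
      decide +kernel]
  have key : ∀ lo len, allBelow (fun j => okRow Data.table 3795 (lo + j)) len = true → lo ≤ i →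
      i < lo + len → okRow Data.table 3795 i = true :=
    fun lo len h h1 h2 => by
      have := allBelow_spec _ _ h (i - lo) (by omega)
      rwa [show lo + (i - lo) = i by omega] at this
  by_cases h0 : i < 950
  · exact key 0 950 Check.table0 (by omega) (by omega)
  by_cases h1 : i < 1900
  · exact key 950 950 Check.table1 (by omega) (by omega)
  by_cases h2 : i < 2850
  · exact key 1900 950 Check.table2 (by omega) (by omega)
  exact key 2850 945 Check.table3 (by omega) (by omega)

open Data in
/-- The visits of a node. -/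
def visitsOf (k : ℕ) : List (ℕ × Src) :=
  [visits0, visits1, visits2, visits3, visits4, visits5, visits6, visits7, visits8, visits9, visits10,
    visits11, visits12, visits13, visits14, visits15, visits16, visits17, visits18, visits19].getD k []

theorem covers : ∀ k < 20, okCover cert Data.table 3795 1874 20 k (visitsOf k) = true := by
  intro k hk
  interval_cases k
  exacts [Check.cover0, Check.cover1, Check.cover2, Check.cover3, Check.cover4, Check.cover5,
    Check.cover6, Check.cover7, Check.cover8, Check.cover9, Check.cover10, Check.cover11,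
    Check.cover12, Check.cover13, Check.cover14, Check.cover15, Check.cover16, Check.cover17,
    Check.cover18, Check.cover19]

theorem sizes_le : ∀ k < 20, Data.sizes.getD k 0 ≤ Nat.card ((R.setup).K k) := by
  intro k hk
  have main : ∀ (k : ℕ) (L : List (ℕ × List (List (ℕ × Bool)))), okLevels cert 1874 k [] L = true →
      levelProd L = Data.sizes.getD k 0 → Data.sizes.getD k 0 ≤ Nat.card ((R.setup).K k) := by
    intro k L h e
    rw [← e]
    exact (R.setup).levels_spec R.good _ (fun g => by simp [Setup.mem_K]) h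
  interval_cases k
  · have : (R.setup).K 0 = ⊤ := by
      refine eq_top_iff.2 fun g _ => ?_
      rw [Setup.mem_K, Setup.Stab, Setup.X_zero]
      simpa using (R.setup).mem g
    rw [this, Nat.card_congr (Subgroup.topEquiv (G := M24)).toEquiv, card_M24]
    exact le_of_eq rfl
  exacts [main 1 _ Check.levels1 (by decide +kernel), main 2 _ Check.levels2 (by decide +kernel),
    main 3 _ Check.levels3 (by decide +kernel), main 4 _ Check.levels4 (by decide +kernel),
    main 5 _ Check.levels5 (by decide +kernel), main 6 _ Check.levels6 (by decide +kernel),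
    main 7 _ Check.levels7 (by decide +kernel), main 8 _ Check.levels8 (by decide +kernel),
    main 9 _ Check.levels9 (by decide +kernel), main 10 _ Check.levels10 (by decide +kernel),
    main 11 _ Check.levels11 (by decide +kernel), main 12 _ Check.levels12 (by decide +kernel),
    main 13 _ Check.levels13 (by decide +kernel), main 14 _ Check.levels14 (by decide +kernel),
    main 15 _ Check.levels15 (by decide +kernel), main 16 _ Check.levels16 (by decide +kernel),
    main 17 _ Check.levels17 (by decide +kernel), main 18 _ Check.levels18 (by decide +kernel),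
    main 19 _ Check.levels19 (by decide +kernel)]

/-- **The index bound.** -/
theorem index_H (hgen : Subgroup.closure (Set.range R.ψ ∪ {R.t}) = ⊤) :
    R.H.index ≠ 0 ∧ R.H.index ≤ 173067389 := by
  have h := (R.setup).finite_and_index_le visitsOf (fun k => Data.sizes.getD k 0) table_ok R.good
    covers (by norm_num) R.sizes_le
    (fun k hk => by interval_cases k <;> exact Nat.lt_of_sub_eq_succ rfl) hgen
  refine ⟨h.1, h.2.trans (le_of_eq ?_)⟩
  simp only [card_M24, Finset.sum_range_succ, Finset.sum_range_zero, Data.sizes]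
  rfl

end Rels

end Cfsg.Agent.J4Bound
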