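import Cfsg.Agent.Lib.J4Pres.Bound.Index
import Cfsg.Agent.Lib.J4Pres.Bound.Instance
import Cfsg.Agent.Lib.M24Pres.Main

/-!
The image of the Mathieu group in the presented fourth Janko group and the bound on the presented group.
-/

set_option autoImplicit false

namespace Cfsg.Agent.J4Bound

open Cfsg Cfsg.Agent.J4Pres

theorem m24Rels_j4 : M24Pres.Rels jx jy := by
  constructor <;> simp only [jx, jy, ← map_mul, ← map_inv, ← map_pow] <;>
    refine mkJ_extra ?_ <;> simp [Spor.J4.extra]

/-- The image of the Mathieu group in the presented group. -/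
noncomputable def psiJ : M24 →* Spor.J4 := M24Pres.hom m24Rels_j4

theorem psiJ_gx : psiJ gx = jx := M24Pres.hom_gx _

theorem psiJ_gy : psiJ gy = jy := M24Pres.hom_gy _

/-- The relations of the presented group. -/
noncomputable def relsJ : Rels Spor.J4 := j4Rels psiJ psiJ_gx psiJ_gy

theorem index_relsJ : relsJ.H.index ≠ 0 ∧ relsJ.H.index ≤ 173067389 :=
  relsJ.index_H (j4Rels_gen psiJ psiJ_gx psiJ_gy)

/-- The presented group is finite and no larger than the fourth Janko group. -/
theorem card_le_of_card_H [Finite relsJ.H] (hH : Nat.card relsJ.H ≤ 2 ^ 11 * 244823040) :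
    Finite Spor.J4 ∧ Nat.card Spor.J4 ≤ 86775571046077562880 := by
  have h := index_relsJ
  have hm := relsJ.H.card_mul_index
  have hpos : 0 < Nat.card Spor.J4 := hm ▸ Nat.mul_pos Nat.card_pos (Nat.pos_of_ne_zero h.1)
  refine ⟨(Nat.card_pos_iff.1 hpos).2, ?_⟩
  rw [← hm]
  calc Nat.card relsJ.H * relsJ.H.index ≤ (2 ^ 11 * 244823040) * 173067389 := Nat.mul_le_mul hH h.2
    _ = _ := by norm_num

end Cfsg.Agent.J4Bound
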