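import Mathlib.GroupTheory.Subgroup.Centralizer
import Mathlib.Data.Finset.Card
import Mathlib.SetTheory.Cardinal.Finite
import Mathlib.Tactic.Group

/-!
A group generated by `n` commuting involutions has at most `2 ^ n` elements.
-/

set_option autoImplicit false

namespace Cfsg.Agent.J4Bound

variable {G : Type*} [Group G]

/-- The subgroup generated by pairwise commuting involutions in a list is small. -/
theorem exists_finset_closure : ∀ L : List G, (∀ a ∈ L, ∀ b ∈ L, a * b = b * a) → (∀ a ∈ L, a * a = 1) →
    ∃ F : Finset G, F.card ≤ 2 ^ L.length ∧ ∀ x ∈ Subgroup.closure {a | a ∈ L}, x ∈ F := by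
  classical
  intro L
  induction L with
  | nil =>
    intro _ _
    refine ⟨{1}, le_of_eq (by simp), fun x hx => ?_⟩
    simpa [Subgroup.mem_bot] using hx
  | cons a L ih =>
    intro hc hs
    obtain ⟨F, hF, hmem⟩ := ih (fun b hb c hd => hc b (List.mem_cons_of_mem _ hb) c (List.mem_cons_of_mem _ hd))
      (fun b hb => hs b (List.mem_cons_of_mem _ hb))
    set S := Subgroup.closure {b | b ∈ L} with hS
    have haa : a * a = 1 := hs a List.mem_cons_self
    have hainv : a⁻¹ = a := inv_eq_of_mul_eq_one_right haa
    have hac : ∀ s ∈ S, a * s = s * a := by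
      intro s hs'
      have hle : S ≤ Subgroup.centralizer {a} := (Subgroup.closure_le _).2 fun b hb => by
        rw [SetLike.mem_coe, Subgroup.mem_centralizer_iff]
        rintro c rfl
        exact hc c List.mem_cons_self b (List.mem_cons_of_mem _ hb)
      exact Subgroup.mem_centralizer_iff.1 (hle hs') a rfl
    have key : ∀ x ∈ Subgroup.closure {b | b ∈ a :: L}, x ∈ S ∨ a * x ∈ S := by
      intro x hx
      induction hx using Subgroup.closure_induction with
      | mem y hy =>
        rcases List.mem_cons.1 hy with rfl | hy
        · exact Or.inr (by rw [haa]; exact S.one_mem)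
        · exact Or.inl (Subgroup.subset_closure hy)
      | one => exact Or.inl S.one_mem
      | mul y z _ _ ihy ihz =>
        rcases ihy with hy | hy <;> rcases ihz with hz | hz
        · exact Or.inl (mul_mem hy hz)
        · refine Or.inr ?_
          rw [← mul_assoc, hac y hy, mul_assoc]
          exact mul_mem hy hz
        · refine Or.inr ?_
          rw [← mul_assoc]
          exact mul_mem hy hz
        · refine Or.inl ?_
          have e : y * z = (a * y) * (a * z) := by
            have hy' : y = a * (a * y) := by rw [← mul_assoc, haa, one_mul]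
            conv_lhs => rw [hy', hac _ hy]
            rw [mul_assoc]
          rw [e]
          exact mul_mem hy hz
      | inv y _ ih =>
        rcases ih with hy | hy
        · exact Or.inl (inv_mem hy)
        · refine Or.inr ?_
          have hh := inv_mem hy
          rw [mul_inv_rev, hainv] at hh
          have e : a * y⁻¹ = y⁻¹ * a := by
            have h2 := hac _ hh
            calc a * y⁻¹ = a * (y⁻¹ * a) * a := by rw [mul_assoc, mul_assoc, haa, mul_one]
              _ = y⁻¹ * a := by rw [h2, mul_assoc, haa, mul_one]
          rwa [e]
    refine ⟨F ∪ F.image (a * ·), (Finset.card_union_le _ _).trans ?_, fun x hx => ?_⟩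
    · calc F.card + (F.image (a * ·)).card ≤ F.card + F.card := Nat.add_le_add_left Finset.card_image_le _
        _ ≤ 2 ^ L.length + 2 ^ L.length := Nat.add_le_add hF hF
        _ = 2 ^ (a :: L).length := by rw [List.length_cons, pow_succ, Nat.mul_two]
    · rcases key x hx with h | h
      · exact Finset.mem_union_left _ (hmem x h)
      · exact Finset.mem_union_right _ (Finset.mem_image.2 ⟨a * x, hmem _ h, by rw [← mul_assoc, haa, one_mul]⟩)

end Cfsg.Agent.J4Bound
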