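import Cfsg.Agent.Lib.J4Pres.Bound.TransChecks
import Cfsg.Agent.Lib.J4Pres.Bound.TransClosure

/-!
The subgroup generated by the image of the Mathieu group and the translation has at most
`2 ^ 11 * 244823040` elements.
-/

set_option autoImplicit false
set_option maxRecDepth 100000

namespace Cfsg.Agent.J4Bound

open Cfsg Cfsg.Agent.PermCert Cfsg.Agent.Golay Cfsg.Agent.J4Pres

namespace Trans

open TrioStab (cd_x cd_y)

variable {G : Type*} [Group G] (R : Rels G)

/-- The conjugate of the translation by an element. -/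
def cv (g : M24) : G := R.ψ g * R.v * (R.ψ g)⁻¹

theorem cv_congr {g k : M24} (h : R.ψ (g⁻¹ * k) * R.v = R.v * R.ψ (g⁻¹ * k)) : cv R k = cv R g := by
  have e : k = g * (g⁻¹ * k) := by group
  unfold cv
  rw [show R.ψ k = R.ψ g * R.ψ (g⁻¹ * k) by rw [← map_mul, ← e], mul_assoc (R.ψ g) _ R.v, h]
  group

theorem cv_fix {e f : Elt} {g k : M24} (hg : Cd e g) (hk : Cd f k)
    (h : fixS (cmul (cinv e) f) = true) : cv R k = cv R g :=
  cv_congr R (fixS_comm R _ _ (hg.inv.mul hk) h)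

theorem cv_mul (g k : M24) : cv R (g * k) = R.ψ g * cv R k * (R.ψ g)⁻¹ := by
  simp only [cv, map_mul]; group

theorem cv_one : cv R 1 = R.v := by simp [cv]

theorem cv_sq (g : M24) : cv R g * cv R g = 1 := by
  simp only [cv]
  calc R.ψ g * R.v * (R.ψ g)⁻¹ * (R.ψ g * R.v * (R.ψ g)⁻¹) = R.ψ g * (R.v * R.v) * (R.ψ g)⁻¹ := by group
    _ = 1 := by rw [v_sq, mul_one, mul_inv_cancel]

theorem okRow_of_lt {i : ℕ} (hi : i < 1771) : okRow i = true := by
  by_cases h0 : i < 443
  · exact allBelow_spec _ _ rows0 i h0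
  by_cases h1 : i < 886
  · have := allBelow_spec _ _ rows1 (i - 443) (by omega)
    rwa [show 443 + (i - 443) = i by omega] at this
  by_cases h2 : i < 1329
  · have := allBelow_spec _ _ rows2 (i - 886) (by omega)
    rwa [show 886 + (i - 886) = i by omega] at this
  · have := allBelow_spec _ _ rows3 (i - 1329) (by omega)
    rwa [show 1329 + (i - 1329) = i by omega] at this

theorem kinds_mem :
    (([cone, kindRep 2, cone, kindRep 2], cone) : Ident) ∈ baseV ++ Data.transV.map Prod.fst ∧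
      (([cone, kindRep 3, cone, kindRep 3], cone) : Ident) ∈ baseV ++ Data.transV.map Prod.fst ∧
      kindRep 0 = J4Bound.cone ∧ okElt (kindRep 1) = true ∧ okElt (kindRep 2) = true ∧
      okElt (kindRep 3) = true ∧ okElt Data.transThird = true ∧ lineReps = [J4Bound.cone, kindRep 1, Data.transThird] := by
  decide +kernel

theorem cd_kind {k : ℕ} (hk : k < 4) : ∃ g, Cd (kindRep k) g := by
  obtain ⟨-, -, h0, h1, h2, h3, -, -⟩ := kinds_mem
  interval_cases k
  exacts [⟨1, h0 ▸ cd_one⟩, exists_cd h1, exists_cd h2, exists_cd h3]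

theorem cd_of_row {i : ℕ} {e : Elt} (hi : i < 1771) (he : rep? i = some e) : ∃ k, Cd e k := by
  have h' := okRow_of_lt hi
  unfold okRow at h'
  split at h'
  · rename_i r' jx jy c hh heq'
    simp only [rep?, heq', Option.map_some, Option.some.injEq] at he
    subst he
    simp only [Bool.and_eq_true, Nat.blt_eq] at h'
    obtain ⟨⟨⟨⟨⟨⟨⟨hv, -⟩, -⟩, hc⟩, hvh⟩, hfix⟩, hrel⟩, -⟩ := h'
    obtain ⟨m, hm⟩ := cd_of_fix hvh hfix
    obtain ⟨q, hq⟩ := cd_kind hc
    exact cd_of_fix_mul (hm.mul hq) hv hrel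
  · exact absurd h' (by simp)

theorem row_images {i : ℕ} (hi : i < 1771) {r : Elt} {g : M24} (hr : rep? i = some r) (hg : Cd r g) :
    (∃ j < 1771, ∃ a k, rep? j = some a ∧ Cd a k ∧ cv R (gx * g) = cv R k) ∧
      (∃ j < 1771, ∃ a k, rep? j = some a ∧ Cd a k ∧ cv R (gy * g) = cv R k) := by
  have h := okRow_of_lt hi
  unfold okRow at h
  split at h
  · rename_i r' jx jy k hh heq
    simp only [rep?, heq, Option.map_some, Option.some.injEq] at hr
    subst hr
    simp only [Bool.and_eq_true, Nat.blt_eq] at h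
    obtain ⟨⟨⟨⟨⟨⟨⟨-, hjx⟩, hjy⟩, -⟩, -⟩, -⟩, -⟩, h⟩ := h
    split at h
    · rename_i a b ha hb
      simp only [Bool.and_eq_true] at h
      obtain ⟨ka, hka⟩ := cd_of_row hjx ha
      obtain ⟨kb, hkb⟩ := cd_of_row hjy hb
      exact ⟨⟨jx, hjx, a, ka, ha, hka, cv_fix R hka (cd_x.mul hg) h.1⟩,
        ⟨jy, hjy, b, kb, hb, hkb, cv_fix R hkb (cd_y.mul hg) h.2⟩⟩
    · exact absurd h (by simp)
  · exact absurd h (by simp)

/-- The element is a conjugate listed in the table. -/
def InTable (x : G) : Prop := ∃ i < 1771, ∃ r k, rep? i = some r ∧ Cd r k ∧ x = cv R k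

theorem inTable_cv (g : M24) : InTable R (cv R g) := by
  have key : ∀ (a : M24), (a = gx ∨ a = gy) → ∀ b, InTable R (cv R b) → InTable R (cv R (a * b)) := by
    rintro a ha b ⟨i, hi, r, k, hr, hk, e⟩
    obtain ⟨hx, hy⟩ := row_images R hi hr hk
    have e' : cv R (a * b) = cv R (a * k) := by rw [cv_mul, e, cv_mul]
    rcases ha with rfl | rfl
    · obtain ⟨j, hj, f, m, hf, hm, h⟩ := hx
      exact ⟨j, hj, f, m, hf, hm, e'.trans h⟩
    · obtain ⟨j, hj, f, m, hf, hm, h⟩ := hy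
      exact ⟨j, hj, f, m, hf, hm, e'.trans h⟩
  have hg : g ∈ Subgroup.closure {gx, gy} := by rw [closure_gx_gy]; trivial
  induction hg using Subgroup.closure_induction_left with
  | one => exact ⟨0, by norm_num, cone, 1, row0, cd_one, rfl⟩
  | mul_left a ha b _ ih => exact key a (by simpa using ha) b ih
  | inv_mul_cancel a ha b _ ih =>
    rcases ha with rfl | rfl
    · rw [inv_eq_of_mul_eq_one_right (show gx * gx = 1 by rw [← pow_two, rel_sq])]
      exact key _ (Or.inl rfl) b ih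
    · rw [inv_eq_of_mul_eq_one_right (show gy * (gy * gy) = 1 by rw [← pow_two, ← pow_succ', rel_cube]),
        mul_assoc]
      exact key _ (Or.inr rfl) _ (key _ (Or.inr rfl) b ih)

theorem comm_of_ident {c : Elt} {g : M24} (hc : Cd c g)
    (hm : (([cone, c, cone, c], cone) : Ident) ∈ baseV ++ Data.transV.map Prod.fst) :
    R.v * cv R g = cv R g * R.v := by
  obtain ⟨a, m, ha, hm', e⟩ := holdsV R hm
  have := lval_unique ((((LVal.nil (ψ := R.ψ) (u := R.v)).cons hc).cons cd_one).cons hc |>.cons cd_one) ha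
  rw [e, hm'.unique cd_one, map_one] at this
  have h1 : R.v * cv R g * R.v * cv R g = 1 := by rw [← this]; simp [cv, mul_assoc]
  calc R.v * cv R g = (R.v * cv R g * R.v * cv R g) * ((cv R g)⁻¹ * R.v⁻¹) := by group
    _ = cv R g * R.v := by
      rw [h1, one_mul, v_inv, inv_eq_of_mul_eq_one_right (cv_sq R g)]

theorem line_rel : ∃ g h, Cd (kindRep 1) g ∧ Cd Data.transThird h ∧ R.v * cv R g * cv R h = 1 := by
  obtain ⟨-, -, -, h1, -, -, h3, hl⟩ := kinds_mem
  obtain ⟨g, hg⟩ := exists_cd h1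
  obtain ⟨h, hh⟩ := exists_cd h3
  obtain ⟨a, m, ha, hm, e⟩ := holdsV R (I := (lineReps, cone)) (by simp [baseV])
  rw [hl] at ha
  have := lval_unique (((LVal.nil (ψ := R.ψ) (u := R.v)).cons hh).cons hg |>.cons cd_one) ha
  rw [e, hm.unique cd_one, map_one] at this
  exact ⟨g, h, hg, hh, by rw [← this]; simp [cv, mul_assoc]⟩

theorem comm_kind {k : ℕ} (hk : k < 4) : ∃ g, Cd (kindRep k) g ∧ R.v * cv R g = cv R g * R.v := by
  obtain ⟨hs, hf, h0, h1, h2, h3, -, -⟩ := kinds_mem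
  interval_cases k
  · exact ⟨1, h0 ▸ cd_one, by rw [cv_one]⟩
  · obtain ⟨g, h, hg, hh, e⟩ := line_rel R
    have hab : cv R h = (R.v * cv R g)⁻¹ := (inv_eq_of_mul_eq_one_right e).symm
    have hsq := cv_sq R h
    rw [hab] at hsq
    refine ⟨g, hg, ?_⟩
    have h2' : R.v * cv R g = (R.v * cv R g)⁻¹ := by
      rw [eq_inv_iff_mul_eq_one]
      have := congrArg (·⁻¹) hsq
      simpa [mul_inv_rev] using this
    rw [h2', mul_inv_rev, v_inv, inv_eq_of_mul_eq_one_right (cv_sq R g)]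
  · obtain ⟨g, hg⟩ := exists_cd h2
    exact ⟨g, hg, comm_of_ident R hg hs⟩
  · obtain ⟨g, hg⟩ := exists_cd h3
    exact ⟨g, hg, comm_of_ident R hg hf⟩

theorem comm_v (g : M24) : R.v * cv R g = cv R g * R.v := by
  obtain ⟨i, hi, r, k, hr, hk, e⟩ := inTable_cv R g
  rw [e]
  have h := okRow_of_lt hi
  unfold okRow at h
  split at h
  · rename_i r' jx jy c hh heq
    simp only [rep?, heq, Option.map_some, Option.some.injEq] at hr
    subst hr
    simp only [Bool.and_eq_true, Nat.blt_eq] at h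
    obtain ⟨⟨⟨⟨⟨-, hc⟩, hok⟩, hfix⟩, hk'⟩, -⟩ := h
    obtain ⟨m, hm⟩ := cd_of_fix hok hfix
    obtain ⟨q, hq, hcomm⟩ := comm_kind R hc
    rw [cv_fix R (hm.mul hq) hk hk', cv_mul]
    have hv := fixS_comm R _ _ hm hfix
    have hvv : R.v = R.ψ m * R.v * (R.ψ m)⁻¹ := by rw [hv]; group
    rw [hvv]
    calc R.ψ m * R.v * (R.ψ m)⁻¹ * (R.ψ m * cv R q * (R.ψ m)⁻¹)
        = R.ψ m * (R.v * cv R q) * (R.ψ m)⁻¹ := by group
      _ = R.ψ m * (cv R q * R.v) * (R.ψ m)⁻¹ := by rw [hcomm]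
      _ = R.ψ m * cv R q * (R.ψ m)⁻¹ * (R.ψ m * R.v * (R.ψ m)⁻¹) := by group
  · exact absurd h (by simp)

theorem comm_cv (g k : M24) : cv R g * cv R k = cv R k * cv R g := by
  have h := comm_v R (g⁻¹ * k)
  have e : cv R k = R.ψ g * cv R (g⁻¹ * k) * (R.ψ g)⁻¹ := by rw [← cv_mul, mul_inv_cancel_left]
  rw [e]
  calc cv R g * (R.ψ g * cv R (g⁻¹ * k) * (R.ψ g)⁻¹)
      = R.ψ g * (R.v * cv R (g⁻¹ * k)) * (R.ψ g)⁻¹ := by unfold cv; group
    _ = R.ψ g * (cv R (g⁻¹ * k) * R.v) * (R.ψ g)⁻¹ := by rw [h]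
    _ = R.ψ g * cv R (g⁻¹ * k) * (R.ψ g)⁻¹ * cv R g := by unfold cv; group

/-- The conjugates in the rows of a mask lie in a subgroup. -/
def MaskIn (A : Subgroup G) (m : ℕ) : Prop :=
  ∀ i, m.testBit i = true → i < 1771 ∧ ∀ r k, rep? i = some r → Cd r k → cv R k ∈ A

theorem runDeds_spec {A : Subgroup G} : ∀ {L : List (ℕ × ℕ × ℕ × Elt)} {m m' : ℕ},
    runDeds L m = some m' → MaskIn R A m → MaskIn R A m' := by
  intro L
  induction L with
  | nil => intro m m' h hm; rw [runDeds, Option.some.injEq] at h; exact h ▸ hm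
  | cons d L ih =>
    obtain ⟨a, b, r, e⟩ := d
    intro m m' h hm
    simp only [runDeds] at h
    split at h
    · rename_i ea eb er ha hb hr
      generalize hc : (m.testBit a && m.testBit b && _ && _ && _ && _ && _) = c at h
      cases c with
      | false => exact absurd h (by simp)
      | true =>
        simp only [Bool.and_eq_true, Nat.blt_eq] at hc
        obtain ⟨⟨⟨⟨⟨⟨hta, htb⟩, hlt⟩, hok⟩, f1⟩, f2⟩, f3⟩ := hc
        refine ih h fun i hi => ?_
        rw [Nat.testBit_or, Bool.or_eq_true] at hi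
        rcases hi with hi | hi
        · exact hm i hi
        rw [Nat.one_shiftLeft, Nat.testBit_two_pow, decide_eq_true_eq] at hi
        subst hi
        refine ⟨hlt, fun rr k hrr hk => ?_⟩
        obtain rfl : er = rr := Option.some.inj (hr.symm.trans hrr)
        obtain ⟨p, q, hp, hq, eline⟩ := line_rel R
        obtain ⟨hla, ga⟩ := hm a hta
        obtain ⟨hlb, gb⟩ := hm b htb
        obtain ⟨ka, hka⟩ : ∃ ka, Cd ea ka := cd_of_row hla ha
        obtain ⟨kb, hkb⟩ : ∃ kb, Cd eb kb := cd_of_row hlb hb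
        obtain ⟨g, hg⟩ := cd_of_fix_mul_left hka hok f1
        have h1 : cv R ka = R.ψ g * R.v * (R.ψ g)⁻¹ := by
          rw [cv_fix R hg hka (by simpa using f1)]; rfl
        have h2 : cv R kb = R.ψ g * cv R p * (R.ψ g)⁻¹ := by rw [cv_fix R (hg.mul hp) hkb f2, cv_mul]
        have h3 : cv R k = R.ψ g * cv R q * (R.ψ g)⁻¹ := by rw [cv_fix R (hg.mul hq) hk f3, cv_mul]
        have hA := mul_mem (ga ea ka ha hka) (gb eb kb hb hkb)
        have e3 : cv R k = (cv R ka * cv R kb)⁻¹ := by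
          rw [h1, h2, h3, show cv R q = (R.v * cv R p)⁻¹ from (inv_eq_of_mul_eq_one_right eline).symm]
          group
        rw [e3]
        exact inv_mem hA
    · exact absurd h (by simp)

theorem mask_basis (A : Subgroup G)
    (hA : ∀ i ∈ Data.transBasis, ∀ r k, rep? i = some r → Cd r k → cv R k ∈ A) :
    MaskIn R A basisMask := by
  have key : ∀ (l : List ℕ) (m : ℕ), MaskIn R A m →
      (∀ i ∈ l, i < 1771 ∧ ∀ r k, rep? i = some r → Cd r k → cv R k ∈ A) →
      MaskIn R A (l.foldl (fun m i => m ||| (1 <<< i)) m) := by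
    intro l
    induction l with
    | nil => intro m hm _; exact hm
    | cons a l ih =>
      intro m hm hl
      refine ih _ (fun i hi => ?_) fun i hi => hl i (List.mem_cons_of_mem _ hi)
      rw [Nat.testBit_or, Bool.or_eq_true] at hi
      rcases hi with hi | hi
      · exact hm i hi
      · rw [Nat.one_shiftLeft, Nat.testBit_two_pow, decide_eq_true_eq] at hi
        exact hi ▸ hl a List.mem_cons_self
  exact key _ 0 (fun i hi => by simp at hi) fun i hi => ⟨basis_len.2 i hi, hA i hi⟩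

open Classical in
/-- The conjugate of a row. -/
noncomputable def rowV (i : ℕ) : G :=
  if h : ∃ r k, rep? i = some r ∧ Cd r k then cv R h.choose_spec.choose else 1

theorem rowV_eq {i : ℕ} {r : Elt} {k : M24} (hr : rep? i = some r) (hk : Cd r k) : rowV R i = cv R k := by
  have h : ∃ r k, rep? i = some r ∧ Cd r k := ⟨r, k, hr, hk⟩
  rw [rowV, dif_pos h]
  obtain ⟨h1, h2⟩ := h.choose_spec.choose_spec
  exact congrArg (cv R) (h2.unique (by rw [Option.some.inj (h1.symm.trans hr)]; exact hk))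

/-- The subgroup of the eleven generators. -/
noncomputable def base : Subgroup G :=
  Subgroup.closure {a | a ∈ (Data.transBasis.map (rowV R))}

theorem cv_mem_base (g : M24) : cv R g ∈ base R := by
  obtain ⟨i, hi, r, k, hr, hk, e⟩ := inTable_cv R g
  have h0 := runDeds_spec R deds0 (mask_basis R (base R) fun j hj r k hr hk =>
    Subgroup.subset_closure (List.mem_map.2 ⟨j, hj, rowV_eq R hr hk⟩))
  have h := runDeds_spec R deds1 h0
  rw [e]
  exact (h i (by rw [Nat.testBit_two_pow_sub_one]; simpa using hi)).2 r k hr hk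

theorem rowV_cases (i : ℕ) : rowV R i = 1 ∨ ∃ g, rowV R i = cv R g := by
  classical
  by_cases h : ∃ r k, rep? i = some r ∧ Cd r k
  · exact Or.inr ⟨_, dif_pos h⟩
  · exact Or.inl (dif_neg h)

theorem base_small : ∃ F : Finset G, F.card ≤ 2 ^ 11 ∧ ∀ x ∈ base R, x ∈ F := by
  have h := exists_finset_closure (Data.transBasis.map (rowV R)) (fun a ha b hb => by
      obtain ⟨i, -, rfl⟩ := List.mem_map.1 ha
      obtain ⟨j, -, rfl⟩ := List.mem_map.1 hb
      rcases rowV_cases R i with e | ⟨g, e⟩ <;> rcases rowV_cases R j with e' | ⟨g', e'⟩ <;>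
        rw [e, e'] <;> simp [comm_cv R]) (fun a ha => by
      obtain ⟨i, -, rfl⟩ := List.mem_map.1 ha
      rcases rowV_cases R i with e | ⟨g, e⟩ <;> rw [e]
      · exact one_mul 1
      · exact cv_sq R g)
  rwa [List.length_map, basis_len.1] at h

theorem conj_base (g : M24) {n : G} (hn : n ∈ base R) : R.ψ g * n * (R.ψ g)⁻¹ ∈ base R := by
  refine (Subgroup.closure_le ((base R).comap (MulAut.conj (R.ψ g)).toMonoidHom)).2 ?_ hn
  intro a ha
  obtain ⟨i, -, rfl⟩ := List.mem_map.1 ha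
  show R.ψ g * rowV R i * (R.ψ g)⁻¹ ∈ base R
  rcases rowV_cases R i with e | ⟨k, e⟩
  · simp [e]
  · rw [e, ← cv_mul]; exact cv_mem_base R _

theorem exists_form {x : G} (hx : x ∈ R.H) : ∃ g, ∃ n ∈ base R, x = R.ψ g * n := by
  induction hx using Subgroup.closure_induction with
  | mem y hy =>
    rcases hy with ⟨g, rfl⟩ | rfl
    · exact ⟨g, 1, one_mem _, (mul_one _).symm⟩
    · exact ⟨1, R.v, cv_one R ▸ cv_mem_base R 1, by simp⟩
  | one => exact ⟨1, 1, one_mem _, by simp⟩
  | mul y z _ _ ihy ihz =>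
    obtain ⟨g, n, hn, rfl⟩ := ihy
    obtain ⟨k, m, hm, rfl⟩ := ihz
    refine ⟨g * k, R.ψ k⁻¹ * n * (R.ψ k⁻¹)⁻¹ * m, mul_mem (conj_base R k⁻¹ hn) hm, ?_⟩
    simp only [map_mul, map_inv]; group
  | inv y _ ih =>
    obtain ⟨g, n, hn, rfl⟩ := ih
    refine ⟨g⁻¹, R.ψ g * n⁻¹ * (R.ψ g)⁻¹, conj_base R g (inv_mem hn), ?_⟩
    simp only [map_inv]; group

end Trans

/-- **The bound on the translation subgroup.** -/
theorem Rels.card_H {G : Type*} [Group G] (R : Rels G) :
    Finite R.H ∧ Nat.card R.H ≤ 2 ^ 11 * 244823040 := by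
  obtain ⟨F, hF, hmem⟩ := Trans.base_small R
  have : Finite (Trans.base R) :=
    Finite.of_injective (fun x : Trans.base R => (⟨x.1, hmem x.1 x.2⟩ : F)) fun a b e => by
      simpa using e
  have hn : Nat.card (Trans.base R) ≤ 2 ^ 11 := by
    refine (Nat.card_le_card_of_injective (fun x : Trans.base R => (⟨x.1, hmem x.1 x.2⟩ : F))
      fun a b e => by simpa using e).trans ?_
    simpa using hF
  have hmemH : ∀ n ∈ Trans.base R, n ∈ R.H := by
    refine fun n hn => (Subgroup.closure_le _).2 ?_ hn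
    intro a ha
    obtain ⟨i, -, rfl⟩ := List.mem_map.1 ha
    rcases Trans.rowV_cases R i with e | ⟨g, e⟩
    · rw [e]; exact one_mem _
    · rw [e]; exact mul_mem (mul_mem (R.psi_mem_H g) R.v_mem_H) (inv_mem (R.psi_mem_H g))
  let f : M24 × Trans.base R → R.H := fun p =>
    ⟨R.ψ p.1 * p.2.1, mul_mem (R.psi_mem_H p.1) (hmemH _ p.2.2)⟩
  have hf : Function.Surjective f := fun x => by
    obtain ⟨g, n, hn, e⟩ := Trans.exists_form R x.2
    exact ⟨(g, ⟨n, hn⟩), Subtype.ext e.symm⟩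
  refine ⟨Finite.of_surjective f hf, (Nat.card_le_card_of_surjective f hf).trans ?_⟩
  rw [Nat.card_prod, card_M24, Nat.mul_comm]
  exact Nat.mul_le_mul_right _ hn

end Cfsg.Agent.J4Bound
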