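import Cfsg.Agent.Lib.J4Pres.Points
import Mathlib.Tactic.Group

/-!
Coded elements of the Mathieu group for the bound on the presented fourth Janko group: products, inverses,
the test for fixing the central trio, and syllable lists (`none` stands for the third generator).
-/

set_option autoImplicit false

namespace Cfsg.Agent.J4Bound

open Cfsg Cfsg.Agent.PermCert Cfsg.Agent.Golay Cfsg.Agent.J4Pres
open scoped Pointwise

/-- Product of codes. -/
def cmul (a b : Elt) : Elt := PermCert.mul 5 24 a b

/-- Inverse of a code. -/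
def cinv (a : Elt) : Elt := (a.2, a.1)

/-- The identity code. -/
def cone : Elt := PermCert.one 5 24

/-- Equality of the forward codes. -/
def ceq (a b : Elt) : Bool := Nat.beq a.1 b.1

/-- The code `e` describes `g`. -/
def Cd (e : Elt) (g : M24) : Prop :=
  ∀ p : GolayPt, idx ((g : Equiv.Perm GolayPt) p) = get 5 e.1 (idx p) ∧
    idx ((g : Equiv.Perm GolayPt)⁻¹ p) = get 5 e.2 (idx p)

/-- A code of an element of the Mathieu group. -/
def okElt (e : Elt) : Bool := validElt 5 24 e && isAutB e

theorem exists_cd {e : Elt} (h : okElt e = true) : ∃ g, Cd e g := by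
  simp only [okElt, Bool.and_eq_true] at h
  refine ⟨⟨permOf e, permOf_mem_M24 h.1 h.2⟩, fun p => ⟨idx_permOf h.1 p, ?_⟩⟩
  rw [Equiv.Perm.inv_def]
  exact idx_permOf_symm h.1 p

variable {a b : Elt} {g h : M24}

theorem Cd.unique {e : Elt} (h₁ : Cd e g) (h₂ : Cd e h) : g = h :=
  Subtype.ext (Equiv.ext fun p => idx_injective ((h₁ p).1.trans (h₂ p).1.symm))

theorem Cd.mul (ha : Cd a g) (hb : Cd b h) : Cd (cmul a b) (g * h) := by
  intro p
  constructor
  · rw [cmul, PermCert.mul, get_comp _ _ _ _ _ (idx_lt p), Subgroup.coe_mul, Equiv.Perm.mul_apply,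
      (ha _).1, (hb p).1]
  · rw [cmul, PermCert.mul, get_comp _ _ _ _ _ (idx_lt p), Subgroup.coe_mul, mul_inv_rev,
      Equiv.Perm.mul_apply, (hb _).2, (ha p).2]

theorem Cd.inv (ha : Cd a g) : Cd (cinv a) g⁻¹ := fun p =>
  ⟨by simpa [cinv] using (ha p).2, by simpa [cinv] using (ha p).1⟩

theorem cd_one : Cd cone 1 := fun p => by
  simp [cone, PermCert.one, get_idCode 5 24 (idx p) (by norm_num) (idx_lt p)]

theorem Cd.eq_of_ceq (ha : Cd a g) (hb : Cd b h) (e : ceq a b = true) : g = h :=
  Subtype.ext (Equiv.ext fun p => idx_injective (by rw [(ha p).1, (hb p).1, Nat.eq_of_beq_eq_true e]))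

theorem Cd.imgMask (ha : Cd a g) (m : ℕ) :
    (g : Equiv.Perm GolayPt) • maskSet m = maskSet (Golay.imgMask a m) := by
  ext p
  rw [← Finset.inv_smul_mem_iff]
  simp [mem_maskSet, Golay.imgMask, testBit_mkMask, idx_lt, ← (ha p).2]

/-! ### The trio -/

/-- The three masks of a trio. -/
abbrev T3 : Type := ℕ × ℕ × ℕ

/-- A trio from its masks. -/
def t3Set (T : T3) : Finset (Finset GolayPt) := {maskSet T.1, maskSet T.2.1, maskSet T.2.2}

/-- The masks of the central trio. -/
def wMasks : T3 := (3444840, 8922769, 4409606)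

theorem t3Set_w : t3Set wMasks = trioW := rfl

/-- `m` is one of the masks of `T`. -/
def memT3 (T : T3) (m : ℕ) : Bool := Nat.beq m T.1 || Nat.beq m T.2.1 || Nat.beq m T.2.2

theorem memT3_spec {T : T3} {m : ℕ} (h : memT3 T m = true) : maskSet m ∈ t3Set T := by
  simp only [memT3, Bool.or_eq_true, Nat.beq_eq] at h
  rcases h with (rfl | rfl) | rfl <;> simp [t3Set]

/-- The code carries `S` to `T`. -/
def carries (e : Elt) (S T : T3) : Bool :=
  memT3 T (imgMask e S.1) && memT3 T (imgMask e S.2.1) && memT3 T (imgMask e S.2.2)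

theorem carries_subset {S T : T3} (ha : Cd a g) (h : carries a S T = true) :
    (g : Equiv.Perm GolayPt) • t3Set S ⊆ t3Set T := by
  simp only [carries, Bool.and_eq_true] at h
  intro o ho
  obtain ⟨s, hs, rfl⟩ := Finset.mem_smul_finset.1 ho
  simp only [t3Set, Finset.mem_insert, Finset.mem_singleton] at hs
  rcases hs with rfl | rfl | rfl <;> rw [ha.imgMask] <;>
    first | exact memT3_spec h.1.1 | exact memT3_spec h.1.2 | exact memT3_spec h.2

theorem carries_smul {S T : T3} (ha : Cd a g) (h : carries a S T = true)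
    (hS : (t3Set S).card = 3) : (g : Equiv.Perm GolayPt) • t3Set S = t3Set T := by
  refine Finset.eq_of_subset_of_card_le (carries_subset ha h) ?_
  rw [Finset.card_smul_finset, hS]
  exact Finset.card_le_three

/-- The code fixes the central trio. -/
def fixW (e : Elt) : Bool := carries e wMasks wMasks

theorem fixW_spec (ha : Cd a g) (h : fixW a = true) : (g : Equiv.Perm GolayPt) • trioW = trioW := by
  rw [← t3Set_w]
  exact carries_smul ha h trioW_mem.1

/-! ### Syllables -/

/-- A syllable: an element of the Mathieu group, or the third generator. -/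
abbrev Syl : Type := Option Elt

/-- All element syllables are valid. -/
def okSyls (L : List Syl) : Bool := L.all fun s => s.elim true okElt

/-- The inverse syllable list. -/
def sinv (L : List Syl) : List Syl := (L.map fun s => s.map cinv).reverse

/-- The value of a syllable list. -/
inductive Val {G : Type*} [Group G] (ψ : M24 →* G) (t : G) : List Syl → G → Prop
  | nil : Val ψ t [] 1
  | tt {L v} : Val ψ t L v → Val ψ t (none :: L) (t * v)
  | elt {L v e g} : Cd e g → Val ψ t L v → Val ψ t (some e :: L) (ψ g * v)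

namespace Val

variable {G : Type*} [Group G] {ψ : M24 →* G} {t : G}

theorem append {L M : List Syl} {u v : G} (hL : Val ψ t L u) (hM : Val ψ t M v) :
    Val ψ t (L ++ M) (u * v) := by
  induction hL with
  | nil => simpa using hM
  | tt _ ih => rw [mul_assoc]; exact ih.tt
  | elt he _ ih => rw [mul_assoc]; exact ih.elt he

theorem unique {L : List Syl} : ∀ {u v : G}, Val ψ t L u → Val ψ t L v → u = v := by
  induction L with
  | nil => intro u v h1 h2; cases h1; cases h2; rfl
  | cons s L ih =>
    intro u v h1 h2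
    cases h1 with
    | tt h1 => cases h2 with
      | tt h2 => rw [ih h1 h2]
    | elt he h1 => cases h2 with
      | elt he' h2 => rw [ih h1 h2, he.unique he']

theorem split : ∀ {L M : List Syl} {v : G}, Val ψ t (L ++ M) v →
    ∃ u w, Val ψ t L u ∧ Val ψ t M w ∧ v = u * w := by
  intro L
  induction L with
  | nil => intro M v h; exact ⟨1, v, nil, h, (one_mul v).symm⟩
  | cons s L ih =>
    intro M v h
    cases h with
    | tt h => obtain ⟨u, w, h1, h2, rfl⟩ := ih h; exact ⟨t * u, w, h1.tt, h2, (mul_assoc ..).symm⟩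
    | elt he h =>
      obtain ⟨u, w, h1, h2, rfl⟩ := ih h
      exact ⟨ψ _ * u, w, h1.elt he, h2, (mul_assoc ..).symm⟩

theorem sinv (ht : t⁻¹ = t) {L : List Syl} {v : G} (h : Val ψ t L v) :
    Val ψ t (J4Bound.sinv L) v⁻¹ := by
  induction h with
  | nil => simpa [J4Bound.sinv] using (nil : Val ψ t [] 1)
  | tt _ ih =>
    have := ih.append (nil.tt : Val ψ t [none] (t * 1))
    simpa [J4Bound.sinv, ht] using this
  | @elt L v e g he _ ih =>
    have := ih.append (nil.elt he.inv : Val ψ t [some (cinv e)] (ψ g⁻¹ * 1))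
    simpa [J4Bound.sinv] using this

theorem exists_of_ok : ∀ {L : List Syl}, okSyls L = true → ∃ v, Val ψ t L v := by
  intro L
  induction L with
  | nil => intro _; exact ⟨1, nil⟩
  | cons s L ih =>
    intro h
    simp only [okSyls, List.all_cons, Bool.and_eq_true] at h
    obtain ⟨v, hv⟩ := ih h.2
    cases s with
    | none => exact ⟨_, hv.tt⟩
    | some e => obtain ⟨g, hg⟩ := exists_cd h.1; exact ⟨_, hv.elt hg⟩

end Val

end Cfsg.Agent.J4Bound
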