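import Cfsg.Agent.Lib.J4Pres.Bound.Code
import Mathlib.GroupTheory.Index

/-!
Certificates of a double coset enumeration over a subgroup containing the image of the Mathieu group:
the facts are `X k * ψ g ∈ H * X k` and `X k * ψ a * t ∈ H * X j * ψ b`, each a scan of a relator through
earlier facts.
-/

set_option autoImplicit false
set_option maxRecDepth 4000

namespace Cfsg.Agent.J4Bound

open Cfsg Cfsg.Agent.PermCert Cfsg.Agent.Golay Cfsg.Agent.J4Pres
open scoped Pointwise

/-- A tree indexed by binary digits. -/
inductive Tree (α : Type) where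
  | leaf : Tree α
  | node (l : Tree α) (v : α) (r : Tree α) : Tree α

namespace Tree

/-- The entry at an index. -/
def get? {α : Type} : Tree α → ℕ → Option α
  | .leaf, _ => none
  | .node l v r, i =>
    bif Nat.beq i 0 then some v
    else bif Nat.beq (i % 2) 1 then l.get? (i / 2) else r.get? (i / 2 - 1)

end Tree

/-- A fact. -/
inductive Fact where
  | s (k : ℕ) (g : Elt) : Fact
  | e (k : ℕ) (a : Elt) (j : ℕ) (b : Elt) : Fact

/-- A reference to an edge: fact, direction, and a product of stabiliser facts in front. -/
structure Step where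
  /-- the fact -/
  f : ℕ
  /-- against the fact -/
  fl : Bool
  /-- the stabilising factors -/
  path : List (ℕ × Bool)

/-- The justification of a fact. -/
inductive Prov where
  | base : Prov
  | dfn : Prov
  | scan (rel cut k : ℕ) (g : Elt) (fw bw : List Step) : Prov
  | join (k : ℕ) (p : Elt) (s₁ s₂ : Step) : Prov

/-- A certificate. -/
structure Cert where
  /-- facts with justifications -/
  items : Tree (Fact × Prov)
  /-- definitions of the nodes from 1 on -/
  defs : List (ℕ × Elt)
  /-- relators; `true` when the value lies in the subgroup only -/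
  rels : List (List Syl × Bool)

/-- Equality of both components. -/
def eeq (a b : Elt) : Bool := Nat.beq a.1 b.1 && Nat.beq a.2 b.2

theorem eeq_spec {a b : Elt} (h : eeq a b = true) : a = b := by
  simp only [eeq, Bool.and_eq_true, Nat.beq_eq] at h
  exact Prod.ext h.1 h.2

variable (C : Cert)

/-- Fact number `f`. -/
def Cert.fact? (f : ℕ) : Option Fact := (C.items.get? f).map Prod.fst

/-- A stabilising factor among the first `n` facts. -/
def factor? (n k : ℕ) (r : ℕ × Bool) : Option Elt :=
  bif Nat.blt r.1 n then
    match C.fact? r.1 with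
    | some (.s k' g) => bif Nat.beq k' k then some (bif r.2 then cinv g else g) else none
    | _ => none
  else none

/-- A product of stabilising factors. -/
def sigma? (n k : ℕ) : List (ℕ × Bool) → Option Elt
  | [] => some cone
  | r :: rs =>
    match factor? C n k r, sigma? n k rs with
    | some g, some h => some (cmul g h)
    | _, _ => none

/-- An edge among the first `n` facts. -/
def edge? (n f : ℕ) (fl : Bool) : Option (ℕ × Elt × ℕ × Elt) :=
  bif Nat.blt f n then
    match C.fact? f with
    | some (.e k a j b) => some (bif fl then (j, b, k, a) else (k, a, j, b))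
    | _ => none
  else none

/-- Multiply a state by the third generator. -/
def step? (n : ℕ) (s : Step) (st : ℕ × Elt) : Option (ℕ × Elt) :=
  match edge? C n s.f s.fl, sigma? C n st.1 s.path with
  | some (k, a, j, b), some σ =>
    let c := cmul (cinv (cmul σ a)) st.2
    bif Nat.beq k st.1 && fixW c then some (j, cmul b c) else none
  | _, _ => none

/-- Follow a syllable list. -/
def walk? (n : ℕ) : List Syl → List Step → ℕ × Elt → Option (ℕ × Elt)
  | [], _, st => some st
  | some e :: L, fs, st => walk? n L fs (st.1, cmul st.2 e)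
  | none :: L, f :: fs, st =>
    match step? C n f st with
    | some st' => walk? n L fs st'
    | none => none
  | none :: _, [], _ => none

/-- Check the fact `n`. -/
def okItem (n : ℕ) : Bool :=
  match C.items.get? n with
  | none => false
  | some (F, .base) =>
    match F with
    | .s k g => Nat.beq k 0 && okElt g
    | _ => false
  | some (F, .dfn) =>
    match F with
    | .e k a j b =>
      match C.defs[j - 1]? with
      | some (k', a') => Nat.blt k j && Nat.beq k k' && eeq a a' && eeq b a && okElt a
      | none => false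
    | _ => false
  | some (F, .scan rel cut k g fw bw) =>
    match C.rels[rel]? with
    | none => false
    | some (R, toH) =>
      let en0 : ℕ × Elt := bif toH then (0, cone) else (k, g)
      (!toH || Nat.beq k 0) && okElt g &&
        match F, R.drop cut with
        | .e k' a j b, none :: S =>
          match walk? C n (R.take cut) fw (k, g), walk? C n (sinv S) bw en0 with
          | some st, some en => Nat.beq st.1 k' && eeq st.2 a && Nat.beq en.1 j && eeq en.2 b
          | _, _ => false
        | .s k' h, S =>
          match walk? C n (R.take cut) fw (k, g), walk? C n (sinv S) bw en0 with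
          | some st, some en =>
            Nat.beq st.1 k' && Nat.beq en.1 k' && eeq h (cmul st.2 (cinv en.2))
          | _, _ => false
        | _, _ => false
  | some (F, .join k p s₁ s₂) =>
    match F, step? C n s₁ (k, p), step? C n s₂ (k, p) with
    | .s k' h, some a, some b =>
      okElt p && Nat.beq a.1 k' && Nat.beq b.1 k' && eeq h (cmul a.2 (cinv b.2))
    | _, _, _ => false

/-- Check the facts in a range. -/
def okItems (lo len : ℕ) : Bool := allBelow (fun i => okItem C (lo + i)) len

section sound

variable {G : Type*} [Group G]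

open Classical in
/-- The image of a coded element. -/
noncomputable def el (ψ : M24 →* G) (e : Elt) : G := if h : ∃ g, Cd e g then ψ h.choose else 1

theorem el_eq {ψ : M24 →* G} {e : Elt} {g : M24} (h : Cd e g) : el ψ e = ψ g := by
  have he : ∃ g, Cd e g := ⟨g, h⟩
  rw [el, dif_pos he]
  exact congrArg ψ (he.choose_spec.unique h)

/-- The representatives of the nodes. -/
noncomputable def reps (ψ : M24 →* G) (t : G) : List (ℕ × Elt) → List G → List G
  | [], acc => acc
  | (k, a) :: ds, acc => reps ψ t ds (acc ++ [acc.getD k 1 * el ψ a * t * (el ψ a)⁻¹])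

theorem reps_getD_lt (ψ : M24 →* G) (t : G) :
    ∀ (ds : List (ℕ × Elt)) (acc : List G) (i : ℕ), i < acc.length →
      (reps ψ t ds acc).getD i 1 = acc.getD i 1
  | [], _, _, _ => rfl
  | (k, a) :: ds, acc, i, hi => by
    rw [reps, reps_getD_lt ψ t ds _ i (by simp; omega), List.getD_append _ _ _ _ hi]

theorem reps_getD_def (ψ : M24 →* G) (t : G) :
    ∀ (ds : List (ℕ × Elt)) (acc : List G) (i k : ℕ) (a : Elt), ds[i]? = some (k, a) →
      k < acc.length + i →
      (reps ψ t ds acc).getD (acc.length + i) 1 =
        (reps ψ t ds acc).getD k 1 * el ψ a * t * (el ψ a)⁻¹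
  | [], _, i, k, a, h, _ => by simp at h
  | (k₀, a₀) :: ds, acc, i, k, a, h, hk => by
    cases i with
    | zero =>
      simp only [List.getElem?_cons_zero, Option.some.injEq, Prod.mk.injEq] at h
      obtain ⟨rfl, rfl⟩ := h
      rw [reps, reps_getD_lt ψ t ds _ _ (by simp), reps_getD_lt ψ t ds _ k₀ (by simp; omega),
        List.getD_append_right _ _ _ _ (by simp), List.getD_append _ _ _ _ (by simpa using hk)]
      simp
    | succ i =>
      rw [reps]
      have := reps_getD_def ψ t ds (acc ++ [acc.getD k₀ 1 * el ψ a₀ * t * (el ψ a₀)⁻¹]) i k a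
        (by simpa using h) (by simp; omega)
      rw [show acc.length + (i + 1) =
        (acc ++ [acc.getD k₀ 1 * el ψ a₀ * t * (el ψ a₀)⁻¹]).length + i by simp; omega]
      exact this

/-- What the enumeration needs of the group. -/
structure Setup (C : Cert) (G : Type*) [Group G] where
  /-- The map from the Mathieu group. -/
  ψ : M24 →* G
  /-- The third generator. -/
  t : G
  /-- The subgroup. -/
  H : Subgroup G
  tt : t * t = 1
  comm : ∀ g : M24, (g : Equiv.Perm GolayPt) • trioW = trioW → ψ g * t = t * ψ g
  mem : ∀ g, ψ g ∈ H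
  rel : ∀ R toH, (R, toH) ∈ C.rels → ∃ v, Val ψ t R v ∧ (toH = false → v = 1) ∧ v ∈ H

namespace Setup

variable {C : Cert} (S : Setup C G)

theorem tinv : S.t⁻¹ = S.t := inv_eq_of_mul_eq_one_right S.tt

/-- The representative of a node. -/
noncomputable def X (j : ℕ) : G := (reps S.ψ S.t C.defs [1]).getD j 1

theorem X_zero : S.X 0 = 1 := by rw [X, reps_getD_lt _ _ _ _ _ (by simp)]; rfl

theorem X_def {j k : ℕ} {a : Elt} {g : M24} (h : C.defs[j - 1]? = some (k, a)) (hkj : k < j)
    (hg : Cd a g) : S.X j = S.X k * S.ψ g * S.t * (S.ψ g)⁻¹ := by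
  have := reps_getD_def S.ψ S.t C.defs [1] (j - 1) k a h (by simp; omega)
  rw [show ([1] : List G).length + (j - 1) = j by simp; omega, el_eq hg] at this
  exact this

/-- A stabilising element of a node. -/
def Stab (k : ℕ) (g : M24) : Prop := S.X k * S.ψ g * (S.X k)⁻¹ ∈ S.H

theorem stab_mul {k : ℕ} {g h : M24} (hg : S.Stab k g) (hh : S.Stab k h) : S.Stab k (g * h) := by
  have := mul_mem hg hh
  unfold Stab
  convert this using 1
  rw [map_mul]; group

theorem stab_inv {k : ℕ} {g : M24} (hg : S.Stab k g) : S.Stab k g⁻¹ := by
  have := inv_mem hg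
  unfold Stab
  convert this using 1
  rw [map_inv]; group

theorem stab_one (k : ℕ) : S.Stab k 1 := by simp [Stab]

/-- A true edge. -/
def Edge (k : ℕ) (a : M24) (j : ℕ) (b : M24) : Prop :=
  S.X k * S.ψ a * S.t * (S.X j * S.ψ b)⁻¹ ∈ S.H

theorem edge_flip {k j : ℕ} {a b : M24} (h : S.Edge k a j b) : S.Edge j b k a := by
  have := inv_mem h
  unfold Edge
  convert this using 1
  rw [mul_inv_rev (a := S.X k * S.ψ a * S.t), inv_inv, mul_inv_rev (S.X k * S.ψ a) S.t, S.tinv]
  group

/-- A true fact. -/
def Good : Fact → Prop
  | .s k e => ∃ g, Cd e g ∧ S.Stab k g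
  | .e k a j b => ∃ ga gb, Cd a ga ∧ Cd b gb ∧ S.Edge k ga j gb

/-- The first `n` facts are true. -/
def GoodBelow (n : ℕ) : Prop := ∀ i < n, ∀ F, C.fact? i = some F → S.Good F

variable {n : ℕ} (hn : S.GoodBelow n)
include hn

theorem factor_spec {k : ℕ} {r : ℕ × Bool} {σ : Elt} (h : factor? C n k r = some σ) :
    ∃ g, Cd σ g ∧ S.Stab k g := by
  unfold factor? at h
  cases hb : Nat.blt r.1 n with
  | false => rw [hb] at h; cases h
  | true =>
    rw [hb] at h
    simp only [cond_true] at h
    split at h
    · rename_i k' g heq
      cases hk : Nat.beq k' k with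
      | false => rw [hk] at h; cases h
      | true =>
        rw [hk] at h
        have hk' := Nat.eq_of_beq_eq_true hk
        subst hk'
        obtain ⟨g', hg', hs⟩ := hn r.1 (by simpa using hb) _ heq
        simp only [cond_true, Option.some.injEq] at h
        cases hr : r.2 <;> rw [hr] at h <;> subst h
        exacts [⟨g', hg', hs⟩, ⟨g'⁻¹, hg'.inv, S.stab_inv hs⟩]
    · cases h

theorem sigma_spec {k : ℕ} : ∀ {rs : List (ℕ × Bool)} {σ : Elt}, sigma? C n k rs = some σ →
    ∃ g, Cd σ g ∧ S.Stab k g := by
  intro rs
  induction rs with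
  | nil => intro σ h; rw [sigma?] at h; obtain rfl := Option.some.inj h; exact ⟨1, cd_one, S.stab_one k⟩
  | cons r rs ih =>
    intro σ h
    unfold sigma? at h
    split at h
    · rename_i g h' h1 h2
      obtain ⟨a, ha, sa⟩ := S.factor_spec hn h1
      obtain ⟨b, hb, sb⟩ := ih h2
      obtain rfl := Option.some.inj h
      exact ⟨a * b, ha.mul hb, S.stab_mul sa sb⟩
    · cases h

theorem edge_spec {f : ℕ} {fl : Bool} {k j : ℕ} {a b : Elt}
    (h : edge? C n f fl = some (k, a, j, b)) :
    ∃ ga gb, Cd a ga ∧ Cd b gb ∧ S.Edge k ga j gb := by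
  unfold edge? at h
  cases hb : Nat.blt f n with
  | false => rw [hb] at h; cases h
  | true =>
    rw [hb] at h
    simp only [cond_true] at h
    split at h
    · rename_i k' a' j' b' heq
      obtain ⟨ga, gb, ha, hb', he⟩ := hn f (by simpa using hb) _ heq
      cases fl <;> simp only [cond_true, cond_false, Option.some.injEq, Prod.mk.injEq] at h <;>
        obtain ⟨rfl, rfl, rfl, rfl⟩ := h
      exacts [⟨ga, gb, ha, hb', he⟩, ⟨gb, ga, hb', ha, S.edge_flip he⟩]
    · cases h

omit hn in
/-- The point of a state is `u`. -/
def At (st : ℕ × Elt) (u : G) : Prop :=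
  ∃ g, Cd st.2 g ∧ u * (S.X st.1 * S.ψ g)⁻¹ ∈ S.H

theorem step_spec {s : Step} {st st' : ℕ × Elt} {u : G} (h : step? C n s st = some st')
    (hu : S.At st u) : S.At st' (u * S.t) := by
  unfold step? at h
  split at h
  · rename_i k a j b σ h1 h2
    dsimp only at h
    cases hc : Nat.beq k st.1 && fixW (cmul (cinv (cmul σ a)) st.2) with
    | false => rw [hc] at h; cases h
    | true =>
      rw [hc] at h
      simp only [Bool.and_eq_true] at hc
      have hk := Nat.eq_of_beq_eq_true hc.1
      subst hk
      obtain ⟨ga, gb, ha, hb, he⟩ := S.edge_spec hn h1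
      obtain ⟨gs, hs, hst⟩ := S.sigma_spec hn h2
      obtain ⟨gp, hp, hu⟩ := hu
      have hcd := ((hs.mul ha).inv).mul hp
      have hcomm := S.comm _ (fixW_spec hcd hc.2)
      set c := (gs * ga)⁻¹ * gp with hcdef
      simp only [cond_true, Option.some.injEq] at h
      subst h
      refine ⟨gb * c, hb.mul hcd, ?_⟩
      have key := mul_mem (mul_mem hu hst) he
      have hgp : S.ψ gp = S.ψ gs * S.ψ ga * S.ψ c := by
        rw [← map_mul, ← map_mul, hcdef]; group
      convert key using 1
      show u * S.t * (S.X j * S.ψ (gb * c))⁻¹ = _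
      rw [map_mul, hgp]
      have hct : S.t * (S.ψ c)⁻¹ = (S.ψ c)⁻¹ * S.t := by
        rw [eq_inv_mul_iff_mul_eq, ← mul_assoc, hcomm, mul_assoc, mul_inv_cancel, mul_one]
      calc u * S.t * (S.X j * (S.ψ gb * S.ψ c))⁻¹
          = u * (S.t * (S.ψ c)⁻¹) * (S.ψ gb)⁻¹ * (S.X j)⁻¹ := by group
        _ = u * ((S.ψ c)⁻¹ * S.t) * (S.ψ gb)⁻¹ * (S.X j)⁻¹ := by rw [hct]
        _ = _ := by group
  · cases h

theorem walk_spec : ∀ {L : List Syl} {fs : List Step} {st st' : ℕ × Elt} {u v : G},
    walk? C n L fs st = some st' → Val S.ψ S.t L v → S.At st u → S.At st' (u * v) := by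
  intro L
  induction L with
  | nil =>
    intro fs st st' u v h hv hu
    cases hv
    simp [walk?] at h
    subst h
    simpa using hu
  | cons s L ih =>
    intro fs st st' u v h hv hu
    cases hv with
    | @elt _ v e g he hv =>
      simp only [walk?] at h
      obtain ⟨gp, hp, hu⟩ := hu
      rw [← mul_assoc]
      refine ih h hv ⟨gp * g, hp.mul he, ?_⟩
      convert hu using 1
      simp only [map_mul]; group
    | tt hv =>
      cases fs with
      | nil => simp [walk?] at h
      | cons f fs =>
        simp only [walk?] at h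
        split at h
        · rename_i st₂ hs
          rw [← mul_assoc]
          exact ih h hv (S.step_spec hn hs hu)
        · cases h

theorem item_spec {F : Fact} (hF : C.fact? n = some F) (h : okItem C n = true) : S.Good F := by
  unfold okItem at h
  unfold Cert.fact? at hF
  split at h
  · exact absurd h (by simp)
  · rename_i F' heq
    rw [heq, Option.map_some, Option.some.injEq] at hF
    subst hF
    split at h
    · rename_i k g
      simp only [Bool.and_eq_true, Nat.beq_eq] at h
      obtain ⟨rfl, hg⟩ := h
      obtain ⟨g', hg'⟩ := exists_cd hg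
      exact ⟨g', hg', by simp [Stab, S.X_zero, S.mem]⟩
    · exact absurd h (by simp)
  · rename_i F' heq
    rw [heq, Option.map_some, Option.some.injEq] at hF
    subst hF
    split at h
    · rename_i k a j b
      split at h
      · rename_i k' a' hdef
        simp only [Bool.and_eq_true, Nat.beq_eq, Nat.blt_eq] at h
        obtain ⟨⟨⟨⟨hkj, rfl⟩, ha⟩, hb⟩, hok⟩ := h
        obtain rfl := eeq_spec ha
        obtain rfl := eeq_spec hb
        obtain ⟨g, hg⟩ := exists_cd hok
        refine ⟨g, g, hg, hg, ?_⟩
        rw [Edge, S.X_def hdef hkj hg]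
        simp [mul_assoc]
      · exact absurd h (by simp)
    · exact absurd h (by simp)
  · rename_i F' rel cut k g fw bw heq
    rw [heq, Option.map_some, Option.some.injEq] at hF
    subst hF
    split at h
    · exact absurd h (by simp)
    · rename_i R toH hR
      simp only [Bool.and_eq_true] at h
      obtain ⟨⟨hk0, hg⟩, h⟩ := h
      obtain ⟨g', hg'⟩ := exists_cd hg
      obtain ⟨v, hv, hv1, hvH⟩ := S.rel R toH (List.mem_of_getElem? hR)
      have hstart : S.At (k, g) (S.X k * S.ψ g') := ⟨g', hg', by simp⟩
      have hend : S.At (bif toH then (0, cone) else (k, g)) (S.X k * S.ψ g' * v) := by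
        cases toH with
        | false => rw [hv1 rfl, mul_one]; exact hstart
        | true =>
          have hk : k = 0 := by simpa using hk0
          subst hk
          exact ⟨1, cd_one, by simpa [S.X_zero] using mul_mem (S.mem g') hvH⟩
      rw [← List.take_append_drop cut R] at hv
      obtain ⟨u, w, hu, hw, rfl⟩ := hv.split
      split at h
      · rename_i k' a j b D hdrop
        rw [hdrop] at hw
        cases hw with
        | @tt _ w hw =>
          split at h
          · rename_i st en h1 h2
            simp only [Bool.and_eq_true, Nat.beq_eq] at h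
            obtain ⟨⟨⟨rfl, ha⟩, rfl⟩, hb⟩ := h
            obtain rfl := eeq_spec ha
            obtain rfl := eeq_spec hb
            obtain ⟨ga, hga, e1⟩ := S.walk_spec hn h1 hu hstart
            obtain ⟨gb, hgb, e2⟩ := S.walk_spec hn h2 (hw.sinv S.tinv) hend
            refine ⟨ga, gb, hga, hgb, ?_⟩
            have := mul_mem (inv_mem e1) e2
            unfold Edge
            convert this using 1
            group
          · exact absurd h (by simp)
      · rename_i k' e
        split at h
        · rename_i st en h1 h2
          simp only [Bool.and_eq_true, Nat.beq_eq] at h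
          obtain ⟨⟨h3, h4⟩, he⟩ := h
          obtain rfl := eeq_spec he
          obtain ⟨ga, hga, e1⟩ := S.walk_spec hn h1 hu hstart
          obtain ⟨gb, hgb, e2⟩ := S.walk_spec hn h2 (hw.sinv S.tinv) hend
          refine ⟨ga * gb⁻¹, hga.mul hgb.inv, ?_⟩
          have := mul_mem (inv_mem e1) e2
          rw [h3, h4] at this
          unfold Stab
          convert this using 1
          rw [map_mul, map_inv]; group
        · exact absurd h (by simp)
      · exact absurd h (by simp)
  · rename_i F' k p s₁ s₂ heq
    rw [heq, Option.map_some, Option.some.injEq] at hF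
    subst hF
    split at h
    · rename_i k' e a b h1 h2
      simp only [Bool.and_eq_true, Nat.beq_eq] at h
      obtain ⟨⟨⟨hp, h3⟩, h4⟩, he⟩ := h
      obtain rfl := eeq_spec he
      obtain ⟨g, hg⟩ := exists_cd hp
      have hstart : S.At (k, p) (S.X k * S.ψ g) := ⟨g, hg, by simp⟩
      obtain ⟨ga, hga, e1⟩ := S.step_spec hn h1 hstart
      obtain ⟨gb, hgb, e2⟩ := S.step_spec hn h2 hstart
      refine ⟨ga * gb⁻¹, hga.mul hgb.inv, ?_⟩
      have := mul_mem (inv_mem e1) e2
      rw [h3, h4] at this
      unfold Stab
      convert this using 1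
      rw [map_mul, map_inv]; group
    · exact absurd h (by simp)

omit hn in
theorem good_of_ok {N : ℕ} (h : ∀ i < N, okItem C i = true) : S.GoodBelow N := by
  intro i
  induction i using Nat.strong_induction_on with
  | _ i ih => exact fun hi F hF => S.item_spec (fun j hj => ih j hj (hj.trans hi)) hF (h i hi)

end Setup

end sound

end Cfsg.Agent.J4Bound
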