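import Cfsg.Agent.Lib.J4Pres.Bound.Code
import Cfsg.Agent.Lib.J4Pres.Hom

/-!
The relations of the presented fourth Janko group over a copy of the Mathieu group.
-/

set_option autoImplicit false

namespace Cfsg.Agent.J4Bound

open Cfsg Cfsg.Agent.PermCert Cfsg.Agent.Golay Cfsg.Agent.J4Pres
open scoped Pointwise

/-- The conjugator in the word for the translation. -/
def gTrans : M24 := (gy * gx) ^ 4 * gy⁻¹ * gx

/-- An image of the Mathieu group and an involution with the two long relators. -/
structure Rels (G : Type*) [Group G] where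
  /-- The map from the Mathieu group. -/
  ψ : M24 →* G
  /-- The third generator. -/
  t : G
  tt : t * t = 1
  comm : ∀ g : M24, (g : Equiv.Perm GolayPt) • trioW = trioW → ψ g * t = t * ψ g
  line : (ψ gy * ((ψ TrioSystem.gLine)⁻¹ * t * ψ TrioSystem.gLine)) ^ 3 = 1
  last : (ψ TrioSystem.gFour * t * ((ψ TrioSystem.gLast)⁻¹ * t * ψ TrioSystem.gLast)) ^ 2 = 1

namespace Rels

variable {G : Type*} [Group G] (R : Rels G)

theorem tinv : R.t⁻¹ = R.t := inv_eq_of_mul_eq_one_right R.tt

/-- The translation. -/
def v : G := (R.ψ gy * (R.ψ gTrans)⁻¹ * R.t * R.ψ gTrans) ^ 3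

/-- The subgroup generated by the image of the Mathieu group and the translation. -/
def H : Subgroup G := Subgroup.closure (Set.range R.ψ ∪ {R.v})

theorem psi_mem_H (g : M24) : R.ψ g ∈ R.H := Subgroup.subset_closure (Or.inl ⟨g, rfl⟩)

theorem v_mem_H : R.v ∈ R.H := Subgroup.subset_closure (Or.inr rfl)

end Rels

end Cfsg.Agent.J4Bound
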