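import Cfsg.Agent.Lib.J4Pres.Bound.Code

/-!
Certificates of identities between conjugates of one element `u` under the Mathieu group: a word is a
list of coded conjugators followed by a coded element, and a move replaces a segment using an earlier
identity.
-/

set_option autoImplicit false
set_option maxRecDepth 4000

namespace Cfsg.Agent.J4Bound

open Cfsg Cfsg.Agent.PermCert Cfsg.Agent.Golay Cfsg.Agent.J4Pres

/-- An identity: the conjugators of the letters and the value. -/
abbrev Ident : Type := List Elt × Elt

/-- A move: the identity, its conjugator, the position and the length of the replaced segment. -/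
structure Move where
  /-- the identity -/
  id : ℕ
  /-- the conjugator -/
  g : Elt
  /-- the position -/
  pos : ℕ
  /-- the length of the segment -/
  len : ℕ

/-- The letters agree up to the centraliser. -/
def sameLetters (fix : Elt → Bool) : List Elt → List Elt → Bool
  | [], [] => true
  | a :: as, b :: bs => fix (cmul (cinv a) b) && sameLetters fix as bs
  | _, _ => false

/-- Apply a move. -/
def move? (fix : Elt → Bool) (ids : List Ident) (mv : Move) (w : List Elt × Elt) :
    Option (List Elt × Elt) :=
  match ids[mv.id]? with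
  | none => none
  | some (L, m) =>
    bif okElt mv.g && sameLetters fix ((w.1.drop mv.pos).take mv.len)
        ((L.take mv.len).map (cmul mv.g)) then
      let M := cmul (cmul mv.g m) (cinv mv.g)
      some (w.1.take mv.pos ++
        (((L.drop mv.len).map (cmul mv.g)).reverse ++ (w.1.drop mv.pos).drop mv.len).map (cmul M),
        cmul M w.2)
    else none

/-- Apply moves one after another. -/
def moves? (fix : Elt → Bool) (ids : List Ident) : List Move → List Elt × Elt → Option (List Elt × Elt)
  | [], w => some w
  | mv :: ms, w =>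
    match move? fix ids mv w with
    | some w' => moves? fix ids ms w'
    | none => none

/-- A derived identity is reached by moves. -/
def okDeriv (fix : Elt → Bool) (ids : List Ident) (I : Ident) (ms : List Move) : Bool :=
  I.1.all okElt &&
    match moves? fix ids ms (I.1, cone) with
    | some ([], m) => eeq' m I.2
    | _ => false
where
  /-- equality of both components -/
  eeq' (a b : Elt) : Bool := Nat.beq a.1 b.1 && Nat.beq a.2 b.2

/-- Every derived identity follows from the earlier ones. -/
def okDerivs (fix : Elt → Bool) : List Ident → List (Ident × List Move) → Bool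
  | _, [] => true
  | ids, (I, ms) :: rest => okDeriv fix ids I ms && okDerivs fix (ids ++ [I]) rest

section sound

variable {G : Type*} [Group G] (ψ : M24 →* G) (u : G)

/-- The value of a list of letters. -/
inductive LVal : List Elt → G → Prop
  | nil : LVal [] 1
  | cons {L v a g} : Cd a g → LVal L v → LVal (a :: L) (ψ g * u * (ψ g)⁻¹ * v)

/-- A true identity. -/
def Holds (I : Ident) : Prop := ∃ v g, LVal ψ u I.1 v ∧ Cd I.2 g ∧ v = ψ g

variable {ψ u}

namespace LVal

theorem append {L M : List Elt} {x y : G} (hL : LVal ψ u L x) (hM : LVal ψ u M y) :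
    LVal ψ u (L ++ M) (x * y) := by
  induction hL with
  | nil => simpa using hM
  | cons he _ ih => rw [mul_assoc]; exact ih.cons he

theorem split : ∀ {L M : List Elt} {v : G}, LVal ψ u (L ++ M) v →
    ∃ x y, LVal ψ u L x ∧ LVal ψ u M y ∧ v = x * y := by
  intro L
  induction L with
  | nil => intro M v h; exact ⟨1, v, nil, h, (one_mul v).symm⟩
  | cons a L ih =>
    intro M v h
    cases h with
    | cons he h =>
      obtain ⟨x, y, h1, h2, rfl⟩ := ih h
      exact ⟨_, y, h1.cons he, h2, (mul_assoc ..).symm⟩

theorem conj {a : Elt} {g : M24} (hg : Cd a g) {L : List Elt} {v : G} (h : LVal ψ u L v) :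
    LVal ψ u (L.map (cmul a)) (ψ g * v * (ψ g)⁻¹) := by
  induction h with
  | nil => simpa using (nil : LVal ψ u [] 1)
  | @cons L v b k hb _ ih =>
    rw [List.map_cons, show ψ g * (ψ k * u * (ψ k)⁻¹ * v) * (ψ g)⁻¹ =
      ψ (g * k) * u * (ψ (g * k))⁻¹ * (ψ g * v * (ψ g)⁻¹) by rw [map_mul]; group]
    exact ih.cons (hg.mul hb)

theorem reverse (hu : u⁻¹ = u) {L : List Elt} {v : G} (h : LVal ψ u L v) :
    LVal ψ u L.reverse v⁻¹ := by
  induction h with
  | nil => simpa using (nil : LVal ψ u [] 1)
  | @cons L v a g ha _ ih =>
    have := ih.append (nil.cons ha)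
    rw [List.reverse_cons]
    convert this using 1
    rw [mul_one, mul_inv_rev, mul_inv_rev, mul_inv_rev, inv_inv, hu]; group

theorem exists_of_ok : ∀ {L : List Elt}, L.all okElt = true → ∃ v, LVal ψ u L v := by
  intro L
  induction L with
  | nil => intro _; exact ⟨1, nil⟩
  | cons a L ih =>
    intro h
    simp only [List.all_cons, Bool.and_eq_true] at h
    obtain ⟨v, hv⟩ := ih h.2
    obtain ⟨g, hg⟩ := exists_cd h.1
    exact ⟨_, hv.cons hg⟩

theorem same {fix : Elt → Bool} (hfix : ∀ e g, Cd e g → fix e = true → ψ g * u = u * ψ g) :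
    ∀ {L M : List Elt} {x y : G}, sameLetters fix L M = true → LVal ψ u L x → LVal ψ u M y →
      x = y := by
  intro L
  induction L with
  | nil =>
    intro M x y h hx hy
    cases M with
    | nil => cases hx; cases hy; rfl
    | cons => simp [sameLetters] at h
  | cons a L ih =>
    intro M x y h hx hy
    cases M with
    | nil => simp [sameLetters] at h
    | cons b M =>
      simp only [sameLetters, Bool.and_eq_true] at h
      cases hx with
      | @cons _ v _ g hg hx => cases hy with
        | @cons _ w _ k hk hy =>
          rw [ih h.2 hx hy]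
          have hc := hfix _ _ (hg.inv.mul hk) h.1
          have : ψ k = ψ g * ψ (g⁻¹ * k) := by rw [← map_mul, mul_inv_cancel_left]
          rw [this, mul_inv_rev, mul_assoc (ψ g) (ψ (g⁻¹ * k)) u, hc]
          group

end LVal

variable {fix : Elt → Bool} (hfix : ∀ e g, Cd e g → fix e = true → ψ g * u = u * ψ g) (hu : u⁻¹ = u)
include hfix hu

/-- The value of a word. -/
def WVal (ψ : M24 →* G) (u : G) (w : List Elt × Elt) (v : G) : Prop :=
  ∃ x g, LVal ψ u w.1 x ∧ Cd w.2 g ∧ v = x * ψ g

theorem move_spec {ids : List Ident} (hids : ∀ I ∈ ids, Holds ψ u I) {mv : Move}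
    {w w' : List Elt × Elt} {v : G} (h : move? fix ids mv w = some w') (hw : WVal ψ u w v) :
    WVal ψ u w' v := by
  unfold move? at h
  split at h
  · cases h
  · rename_i L m heq
    cases hc : okElt mv.g && sameLetters fix ((w.1.drop mv.pos).take mv.len)
        ((L.take mv.len).map (cmul mv.g)) with
    | false => rw [hc] at h; cases h
    | true =>
      rw [hc] at h
      simp only [cond_true, Option.some.injEq] at h
      subst h
      simp only [Bool.and_eq_true] at hc
      obtain ⟨g, hg⟩ := exists_cd hc.1
      obtain ⟨x, μ, hx, hμ, rfl⟩ := hw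
      obtain ⟨z, k, hz, hk, rfl⟩ := hids _ (List.mem_of_getElem? heq)
      have hM := (hg.mul hk).mul hg.inv
      rw [← List.take_append_drop mv.pos w.1] at hx
      obtain ⟨p, r, hp, hr, rfl⟩ := hx.split
      rw [← List.take_append_drop mv.len (w.1.drop mv.pos)] at hr
      obtain ⟨s, f, hs, hf, rfl⟩ := hr.split
      rw [← List.take_append_drop mv.len L] at hz
      obtain ⟨A, B, hA, hB, hAB⟩ := hz.split
      have hsA := LVal.same hfix hc.2 hs (hA.conj hg)
      refine ⟨_, _, hp.append ((((hB.conj hg).reverse hu).append hf).conj hM), hM.mul hμ, ?_⟩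
      have hA' : A = ψ k * B⁻¹ := eq_mul_inv_of_mul_eq hAB.symm
      rw [hsA, hA']
      simp only [map_mul, map_inv]
      group

theorem moves_spec {ids : List Ident} (hids : ∀ I ∈ ids, Holds ψ u I) :
    ∀ {ms : List Move} {w w' : List Elt × Elt} {v : G}, moves? fix ids ms w = some w' →
      WVal ψ u w v → WVal ψ u w' v := by
  intro ms
  induction ms with
  | nil => intro w w' v h hw; rw [moves?] at h; obtain rfl := Option.some.inj h; exact hw
  | cons mv ms ih =>
    intro w w' v h hw
    unfold moves? at h
    split at h
    · rename_i w₂ hw₂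
      exact ih h (move_spec hfix hu hids hw₂ hw)
    · cases h

theorem deriv_spec {ids : List Ident} (hids : ∀ I ∈ ids, Holds ψ u I) {I : Ident} {ms : List Move}
    (h : okDeriv fix ids I ms = true) : Holds ψ u I := by
  simp only [okDeriv, Bool.and_eq_true] at h
  obtain ⟨hL, h⟩ := h
  obtain ⟨v, hv⟩ := LVal.exists_of_ok (ψ := ψ) (u := u) hL
  split at h
  · rename_i m hm
    have hw : WVal ψ u (I.1, cone) v := ⟨v, 1, hv, cd_one, by simp⟩
    obtain ⟨x, g, hx, hg, e⟩ := moves_spec hfix hu hids hm hw
    cases hx
    simp only [okDeriv.eeq', Bool.and_eq_true, Nat.beq_eq] at h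
    obtain rfl : m = I.2 := Prod.ext h.1 h.2
    exact ⟨v, g, hv, hg, by rw [e, one_mul]⟩
  · exact absurd h (by simp)

theorem derivs_spec : ∀ {ds : List (Ident × List Move)} {ids : List Ident},
    (∀ I ∈ ids, Holds ψ u I) → okDerivs fix ids ds = true →
      ∀ I ∈ ids ++ ds.map Prod.fst, Holds ψ u I := by
  intro ds
  induction ds with
  | nil => intro ids hids _ I hI; exact hids I (by simpa using hI)
  | cons d ds ih =>
    intro ids hids h I hI
    obtain ⟨J, ms⟩ := d
    simp only [okDerivs, Bool.and_eq_true] at h
    refine ih (fun K hK => ?_) h.2 I (by simpa using hI)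
    rcases List.mem_append.1 hK with hK | hK
    · exact hids K hK
    · rw [List.mem_singleton.1 hK]; exact deriv_spec hfix hu hids h.1

end sound

end Cfsg.Agent.J4Bound
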