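import Cfsg.Agent.Lib.J4Pres.Bound.Check.TransRows0
import Cfsg.Agent.Lib.J4Pres.Bound.Check.TransRows1
import Cfsg.Agent.Lib.J4Pres.Bound.Check.TransRows2
import Cfsg.Agent.Lib.J4Pres.Bound.Check.TransRows3
import Cfsg.Agent.Lib.J4Pres.Bound.Check.TransSpan0
import Cfsg.Agent.Lib.J4Pres.Bound.Check.TransSpan1

/-!
Kernel checks for the table of conjugates of the translation.
-/
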