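import Cfsg.Agent.Lib.J4Pres.Bound.Coset

/-! Row type of the table of conjugates of the translation. -/

namespace Cfsg.Agent.J4Bound

/-- A row: the conjugator, the rows of the two images, the kind and the conjugator onto that kind. -/
abbrev TransRow : Type := PermCert.Elt × ℕ × ℕ × ℕ × PermCert.Elt

end Cfsg.Agent.J4Bound
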