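import Cfsg.Agent.Lib.J4Pres.Bound.TransStab
import Cfsg.Agent.Lib.J4Pres.Bound.Data.TransRows
import Cfsg.Agent.Lib.J4Pres.Bound.Data.TransDeds

/-!
The table of the 1771 conjugates of the translation: checkers.
-/

set_option autoImplicit false
set_option maxRecDepth 100000

namespace Cfsg.Agent.J4Bound

open Cfsg Cfsg.Agent.PermCert Cfsg.Agent.Golay Cfsg.Agent.J4Pres

namespace Trans

/-- The conjugator of a row. -/
def rep? (i : ℕ) : Option Elt := (Data.transRows.get? i).map fun r => r.1

/-- A kind's conjugator. -/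
def kindRep (k : ℕ) : Elt := Data.transKinds.getD k cone

/-- Check a row. -/
def okRow (i : ℕ) : Bool :=
  match Data.transRows.get? i with
  | some (r, jx, jy, k, h) =>
    validElt 5 24 r && Nat.blt jx 1771 && Nat.blt jy 1771 && Nat.blt k 4 && validElt 5 24 h && fixS h &&
      fixS (cmul (cinv (cmul h (kindRep k))) r) &&
      match rep? jx, rep? jy with
      | some a, some b => fixS (cmul (cinv a) (cmul eltX r)) && fixS (cmul (cinv b) (cmul eltY r))
      | _, _ => false
  | none => false

/-- Deductions along lines, with the mask of the known rows. -/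
def runDeds : List (ℕ × ℕ × ℕ × Elt) → ℕ → Option ℕ
  | [], m => some m
  | (a, b, r, g) :: L, m =>
    match rep? a, rep? b, rep? r with
    | some ea, some eb, some er =>
      bif m.testBit a && m.testBit b && Nat.blt r 1771 && validElt 5 24 g &&
          fixS (cmul (cinv g) ea) &&
          fixS (cmul (cinv (cmul g (kindRep 1))) eb) &&
          fixS (cmul (cinv (cmul g Data.transThird)) er) then
        runDeds L (m ||| (1 <<< r))
      else none
    | _, _, _ => none

/-- All deductions. -/
def allDeds : List (ℕ × ℕ × ℕ × Elt) :=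
  Data.transDeds0 ++ Data.transDeds1 ++ Data.transDeds2 ++ Data.transDeds3

/-- The mask of the generators. -/
def basisMask : ℕ := Data.transBasis.foldl (fun m i => m ||| (1 <<< i)) 0

/-- A code whose permutation part sifts is the code of an element of the Mathieu group. -/
theorem mem_of_sift : ∀ (L : List (ℕ × List (Elt × List ℕ))), wordsOK L = true →
    ∀ (e : Elt) (σ : Equiv.Perm (Fin 24)), Rep 5 e σ → siftS L e = true → phi σ ∈ M24 := by
  intro L
  induction L with
  | nil =>
    intro _ e σ hr h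
    rw [rep_eq_code hr (rep_one (w := 5) (n := 24) (by norm_num)) (Nat.eq_of_beq_eq_true h), map_one]
    exact one_mem _
  | cons l L ih =>
    obtain ⟨b, T⟩ := l
    intro hok e σ hr h
    simp only [wordsOK, List.all_cons, Bool.and_eq_true] at hok
    simp only [siftS] at h
    split at h
    · rename_i t ht
      have he := eeq_spec (List.all_eq_true.1 hok.1 t (List.mem_of_find?_eq_some ht))
      obtain ⟨k, hk⟩ := wordS_cd t.2
      rw [← he] at hk
      have hkr := rep_of_cd hk
      have hki : Rep 5 (cinv t.1) (phi.symm (k : Equiv.Perm GolayPt))⁻¹ := fun i => by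
        rw [inv_inv]; exact ⟨(hkr i).2, (hkr i).1⟩
      have hm := ih hok.2 _ _ (rep_mul hki hr) h
      rw [map_mul, map_inv, MulEquiv.apply_symm_apply] at hm
      have := mul_mem k.2 hm
      rwa [mul_inv_cancel_left] at this
    · exact absurd h (by simp)
where
  /-- A coded element as a permutation of positions. -/
  rep_of_cd {a : Elt} {g : M24} (ha : Cd a g) :
      Rep 5 a (phi.symm (g : Equiv.Perm GolayPt)) := fun i => by
    have h1 : ∀ (τ : Equiv.Perm GolayPt), ((phi.symm τ) i : ℕ) = idx (τ (pt i)) := fun τ => by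
      have h2 := idx_phi (phi.symm τ) (pt i)
      rw [MulEquiv.apply_symm_apply] at h2
      rw [h2]
      exact congrArg (fun z => ((phi.symm τ) z : ℕ)) (Fin.ext (idx_pt i).symm)
    constructor
    · rw [h1, (ha (pt i)).1, idx_pt]
    · rw [← map_inv, h1, (ha (pt i)).2, idx_pt]
  /-- Words have codes. -/
  wordS_cd : ∀ w : List ℕ, ∃ g, Cd (wordS w) g
    | [] => ⟨1, cd_one⟩
    | i :: w => by
      obtain ⟨g, hg⟩ := wordS_cd w
      obtain ⟨a, ha⟩ := exists_cd idents_mem.2.2.2.2.1
      obtain ⟨b, hb⟩ := exists_cd idents_mem.2.2.2.2.2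
      unfold wordS
      split_ifs
      exacts [⟨_, ha.mul hg⟩, ⟨_, hb.mul hg⟩, ⟨_, ha.inv.mul hg⟩, ⟨_, hb.inv.mul hg⟩]

theorem cd_of_rep {f : Elt} {σ : Equiv.Perm (Fin 24)} (hr : Rep 5 f σ) (h : phi σ ∈ M24) :
    ∃ k, Cd f k := by
  refine ⟨⟨phi σ, h⟩, fun p => ⟨?_, ?_⟩⟩
  · rw [idx_phi]; exact ((hr ⟨idx p, idx_lt p⟩).1).symm
  · show idx ((phi σ)⁻¹ p) = _
    rw [← map_inv, idx_phi]; exact ((hr ⟨idx p, idx_lt p⟩).2).symm

theorem cd_of_fix {f : Elt} (hv : validElt 5 24 f = true) (h : fixS f = true) : ∃ k, Cd f k :=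
  cd_of_rep (rep_toPerm hv) (mem_of_sift _ words_ok _ _ (rep_toPerm hv) h)

theorem cd_of_fix_mul {a f : Elt} {g : M24} (ha : Cd a g) (hv : validElt 5 24 f = true)
    (h : fixS (cmul (cinv a) f) = true) : ∃ k, Cd f k := by
  have har := mem_of_sift.rep_of_cd ha
  have hai : Rep 5 (cinv a) (phi.symm (g : Equiv.Perm GolayPt))⁻¹ := fun i => by
    rw [inv_inv]; exact ⟨(har i).2, (har i).1⟩
  have hm := mem_of_sift _ words_ok _ _ (rep_mul hai (rep_toPerm hv)) h
  rw [map_mul, map_inv, MulEquiv.apply_symm_apply] at hm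
  have := mul_mem g.2 hm
  rw [mul_inv_cancel_left] at this
  exact cd_of_rep (rep_toPerm hv) this

theorem cd_of_fix_mul_left {a f : Elt} {k : M24} (hf : Cd f k) (hv : validElt 5 24 a = true)
    (h : fixS (cmul (cinv a) f) = true) : ∃ g, Cd a g := by
  have hfr := mem_of_sift.rep_of_cd hf
  have har := rep_toPerm hv
  have hai : Rep 5 (cinv a) (toPerm 5 24 a)⁻¹ := fun i => by
    rw [inv_inv]; exact ⟨(har i).2, (har i).1⟩
  have hm := mem_of_sift _ words_ok _ _ (rep_mul hai hfr) h
  rw [map_mul, map_inv, MulEquiv.apply_symm_apply] at hm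
  have h2 := mul_mem k.2 (inv_mem hm)
  rw [mul_inv_rev, inv_inv, mul_inv_cancel_left] at h2
  exact cd_of_rep har h2

end Trans

end Cfsg.Agent.J4Bound
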