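import Cfsg.Agent.Lib.J4Pres.Bound.TransWords
import Cfsg.Agent.Lib.J4Pres.Bound.TransDefs
import Cfsg.Agent.Lib.J4Pres.Bound.Data.TransStab
import Cfsg.Agent.Lib.J4Pres.Bound.Data.TransDerivs

/-!
The translation is well defined on its sextet, is an involution, and satisfies one line relation.
-/

set_option autoImplicit false
set_option maxRecDepth 100000

namespace Cfsg.Agent.J4Bound

open Cfsg Cfsg.Agent.PermCert Cfsg.Agent.Golay Cfsg.Agent.J4Pres

namespace Trans

/-- The identity that an element fixes the translation. -/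
def fixIdent (h : Elt) : Ident := (vLetters.map (cmul h) ++ vLetters.reverse, cone)

/-- The identity that the translation squares to one. -/
def sqIdent : Ident := (vLetters ++ vLetters, cone)

/-- The conjugators of the base line of translations. -/
def lineReps : List Elt := [cone, Data.transKinds.getD 1 cone, Data.transThird]

/-- The identity of the base line. -/
def lineIdent : Ident := (lineReps.flatMap fun a => vLetters.map (cmul a), cone)

theorem derivsT_ok : okDerivs fixW baseT Data.transT = true := by decide +kernel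

theorem idents_mem : fixIdent Data.transGens.1 ∈ baseT ++ Data.transT.map Prod.fst ∧
    fixIdent Data.transGens.2 ∈ baseT ++ Data.transT.map Prod.fst ∧
    sqIdent ∈ baseT ++ Data.transT.map Prod.fst ∧
    lineIdent ∈ baseT ++ Data.transT.map Prod.fst ∧
    okElt Data.transGens.1 = true ∧ okElt Data.transGens.2 = true := by
  decide +kernel

/-- The code of a word in the two generators of the stabiliser. -/
def wordS : List ℕ → Elt
  | [] => cone
  | i :: w => cmul (if i = 0 then Data.transGens.1 else if i = 1 then Data.transGens.2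
      else if i = 2 then cinv Data.transGens.1 else cinv Data.transGens.2) (wordS w)

/-- Every transversal element is the value of its word. -/
def wordsOK (L : List (ℕ × List (Elt × List ℕ))) : Bool :=
  L.all fun l => l.2.all fun t => eeq t.1 (wordS t.2)

theorem words_ok : wordsOK Data.transLevels = true := by decide +kernel

/-- Sift through transversals. -/
def siftS : List (ℕ × List (Elt × List ℕ)) → Elt → Bool
  | [], e => ceq e cone
  | (b, T) :: L, e =>
    match T.find? fun t => Nat.beq (get 5 t.1.1 b) (get 5 e.1 b) with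
    | some t => siftS L (cmul (cinv t.1) e)
    | none => false

/-- The code lies in the stabiliser of the sextet. -/
def fixS (e : Elt) : Bool := siftS Data.transLevels e

section

variable {G : Type*} [Group G] (R : Rels G)

theorem holdsT {I : Ident} (h : I ∈ baseT ++ Data.transT.map Prod.fst) : Holds R.ψ R.t I :=
  derivs_spec (fixW_comm R) R.tinv (holds_base R) derivsT_ok I h

theorem v_sq : R.v * R.v = 1 := by
  obtain ⟨a, g, ha, hg, e⟩ := holdsT R idents_mem.2.2.1
  rw [lval_unique ((lval_v R).append (lval_v R)) ha, e, hg.unique cd_one, map_one]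

theorem v_inv : R.v⁻¹ = R.v := inv_eq_of_mul_eq_one_right (v_sq R)

theorem comm_of_fixIdent {h : Elt} (hok : okElt h = true)
    (hm : fixIdent h ∈ baseT ++ Data.transT.map Prod.fst) {g : M24} (hg : Cd h g) :
    R.ψ g * R.v = R.v * R.ψ g := by
  obtain ⟨a, m, ha, hm', e⟩ := holdsT R hm
  have := lval_unique (((lval_v R).conj hg).append ((lval_v R).reverse R.tinv)) ha
  rw [e, hm'.unique cd_one, map_one, mul_inv_eq_one] at this
  calc R.ψ g * R.v = R.ψ g * R.v * (R.ψ g)⁻¹ * R.ψ g := by group
    _ = R.v * R.ψ g := by rw [this]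

theorem comm_inv {g : M24} (h : R.ψ g * R.v = R.v * R.ψ g) : R.ψ g⁻¹ * R.v = R.v * R.ψ g⁻¹ := by
  rw [map_inv]
  calc (R.ψ g)⁻¹ * R.v = (R.ψ g)⁻¹ * (R.v * R.ψ g) * (R.ψ g)⁻¹ := by group
    _ = R.v * (R.ψ g)⁻¹ := by rw [← h]; group

theorem comm_mul {g k : M24} (h : R.ψ g * R.v = R.v * R.ψ g) (h' : R.ψ k * R.v = R.v * R.ψ k) :
    R.ψ (g * k) * R.v = R.v * R.ψ (g * k) := by
  rw [map_mul, mul_assoc, h', ← mul_assoc, h, mul_assoc]

theorem wordS_comm : ∀ w : List ℕ, ∃ g, Cd (wordS w) g ∧ R.ψ g * R.v = R.v * R.ψ g
  | [] => ⟨1, cd_one, by simp⟩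
  | i :: w => by
    obtain ⟨g, hg, hc⟩ := wordS_comm w
    obtain ⟨a, ha⟩ := exists_cd idents_mem.2.2.2.2.1
    obtain ⟨b, hb⟩ := exists_cd idents_mem.2.2.2.2.2
    have ca := comm_of_fixIdent R idents_mem.2.2.2.2.1 idents_mem.1 ha
    have cb := comm_of_fixIdent R idents_mem.2.2.2.2.2 idents_mem.2.1 hb
    unfold wordS
    split_ifs
    · exact ⟨_, ha.mul hg, comm_mul R ca hc⟩
    · exact ⟨_, hb.mul hg, comm_mul R cb hc⟩
    · exact ⟨_, ha.inv.mul hg, comm_mul R (comm_inv R ca) hc⟩
    · exact ⟨_, hb.inv.mul hg, comm_mul R (comm_inv R cb) hc⟩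

theorem sift_comm : ∀ (L : List (ℕ × List (Elt × List ℕ))), wordsOK L = true →
    ∀ (e : Elt) (g : M24), Cd e g → siftS L e = true → R.ψ g * R.v = R.v * R.ψ g := by
  intro L
  induction L with
  | nil =>
    intro _ e g hg h
    rw [hg.eq_of_ceq cd_one h]
    simp
  | cons l L ih =>
    obtain ⟨b, T⟩ := l
    intro hok e g hg h
    simp only [wordsOK, List.all_cons, Bool.and_eq_true] at hok
    simp only [siftS] at h
    split at h
    · rename_i t ht
      have he := eeq_spec (List.all_eq_true.1 hok.1 t (List.mem_of_find?_eq_some ht))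
      obtain ⟨k, hk, hkc⟩ := wordS_comm R t.2
      rw [← he] at hk
      have := ih hok.2 _ _ (hk.inv.mul hg) h
      have := comm_mul R hkc this
      rwa [mul_inv_cancel_left] at this
    · exact absurd h (by simp)

theorem fixS_comm : ∀ e g, Cd e g → fixS e = true → R.ψ g * R.v = R.v * R.ψ g :=
  sift_comm R _ words_ok

theorem lval_flat : ∀ (L : List Elt) {a : G}, LVal R.ψ R.v L a →
    LVal R.ψ R.t (L.flatMap fun c => vLetters.map (cmul c)) a := by
  intro L
  induction L with
  | nil => intro a h; cases h; exact LVal.nil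
  | cons c L ih =>
    intro a h
    cases h with
    | cons hc h => exact ((lval_v R).conj hc).append (ih h)

theorem lineReps_ok : lineReps.all okElt = true := by decide +kernel

theorem holds_vv : Holds R.ψ R.v ([cone, cone], cone) :=
  ⟨_, 1, ((LVal.nil (ψ := R.ψ) (u := R.v)).cons cd_one).cons cd_one, cd_one, by simp [v_sq R]⟩

theorem holds_vline : Holds R.ψ R.v (lineReps, cone) := by
  obtain ⟨a, ha⟩ := LVal.exists_of_ok (ψ := R.ψ) (u := R.v) lineReps_ok
  obtain ⟨b, g, hb, hg, e⟩ := holdsT R idents_mem.2.2.2.1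
  exact ⟨a, 1, ha, cd_one, by rw [lval_unique (lval_flat R _ ha) hb, e, hg.unique cd_one]⟩

/-- The identities between translations given by the third generator. -/
def baseV : List Ident := [([cone, cone], cone), (lineReps, cone)]

theorem derivsV_ok : okDerivs fixS baseV Data.transV = true := by decide +kernel

theorem holdsV {I : Ident} (h : I ∈ baseV ++ Data.transV.map Prod.fst) : Holds R.ψ R.v I := by
  refine derivs_spec (fixS_comm R) (v_inv R) (fun J hJ => ?_) derivsV_ok I h
  simp only [baseV, List.mem_cons, List.not_mem_nil, or_false] at hJ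
  rcases hJ with rfl | rfl
  exacts [holds_vv R, holds_vline R]

end

end Trans

end Cfsg.Agent.J4Bound
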