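import Cfsg.Agent.Lib.J4Pres.Bound.Rels
import Cfsg.Agent.Lib.J4Pres.Bound.Rewrite
import Cfsg.Agent.Lib.J4Pres.Bound.TrioStab

/-!
Words in conjugates of the third generator: the two long relators and the translation.
-/

set_option autoImplicit false
set_option maxRecDepth 100000

namespace Cfsg.Agent.J4Bound

open Cfsg Cfsg.Agent.PermCert Cfsg.Agent.Golay Cfsg.Agent.J4Pres
open scoped Pointwise

namespace Trans

open TrioStab (cd_x cd_y)

/-- A power of a code. -/
def pw : Elt → ℕ → Elt
  | _, 0 => cone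
  | a, n + 1 => cmul (pw a n) a

theorem cd_pw {a : Elt} {g : M24} (h : Cd a g) : ∀ n, Cd (pw a n) (g ^ n)
  | 0 => by rw [pow_zero]; exact cd_one
  | n + 1 => by rw [pow_succ]; exact (cd_pw h n).mul h

/-- The code of the conjugator of the line relator. -/
def eLine : Elt :=
  cmul (cmul (cmul (cmul (cmul (cmul (cmul eltY eltX) (cinv eltY)) eltX) eltY) eltX) (cinv eltY)) eltX

/-- The code of the element of order four. -/
def eFour : Elt := pw (cmul (cmul (cmul (cmul (cmul (cmul eltY eltX) eltY) eltX) eltY) eltX) eltY) 3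

/-- The code of the conjugator of the last relator. -/
def eLast : Elt := cmul (cmul (cmul (pw (cmul eltX eltY) 3) eltY) (pw (cmul eltX eltY) 6)) eltY

/-- The code of the conjugator in the translation. -/
def eTrans : Elt := cmul (cmul (pw (cmul eltY eltX) 4) (cinv eltY)) eltX

theorem cd_line : Cd eLine TrioSystem.gLine :=
  ((((((cd_y.mul cd_x).mul cd_y.inv).mul cd_x).mul cd_y).mul cd_x).mul cd_y.inv).mul cd_x

theorem cd_four : Cd eFour TrioSystem.gFour :=
  cd_pw ((((((cd_y.mul cd_x).mul cd_y).mul cd_x).mul cd_y).mul cd_x).mul cd_y) 3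

theorem cd_last : Cd eLast TrioSystem.gLast :=
  (((cd_pw (cd_x.mul cd_y) 3).mul cd_y).mul (cd_pw (cd_x.mul cd_y) 6)).mul cd_y

theorem cd_trans : Cd eTrans gTrans := ((cd_pw (cd_y.mul cd_x) 4).mul cd_y.inv).mul cd_x

/-- The letters of the cube of `y * t ^ w`. -/
def cubeLetters (w : Elt) : List Elt :=
  [cmul eltY (cinv w), cmul (cmul eltY eltY) (cinv w), cinv w]

/-- The letters of the translation. -/
def vLetters : List Elt := cubeLetters eTrans

/-- The identities given by the relators. -/
def baseT : List Ident :=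
  let g2 := cmul eFour eFour
  [([cone, cone], cone), (cubeLetters eLine, cone),
    ([eFour, cmul eFour (cinv eLast), g2, cmul g2 (cinv eLast)], cinv g2)]

theorem lval_unique {G : Type*} [Group G] {ψ : M24 →* G} {u : G} {L : List Elt} :
    ∀ {a b : G}, LVal ψ u L a → LVal ψ u L b → a = b := by
  induction L with
  | nil => intro a b h1 h2; cases h1; cases h2; rfl
  | cons c L ih =>
    intro a b h1 h2
    cases h1 with
    | cons hc h1 => cases h2 with
      | cons hc' h2 => rw [ih h1 h2, hc.unique hc']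

section

variable {G : Type*} [Group G] (R : Rels G)

theorem lval_cube {w : Elt} {g : M24} (hw : Cd w g) :
    LVal R.ψ R.t (cubeLetters w) ((R.ψ gy * ((R.ψ g)⁻¹ * R.t * R.ψ g)) ^ 3) := by
  have h := ((LVal.nil (ψ := R.ψ) (u := R.t)).cons hw.inv).cons ((cd_y.mul cd_y).mul hw.inv)
    |>.cons (cd_y.mul hw.inv)
  have h3 : R.ψ gy ^ 3 = 1 := by rw [← map_pow, rel_cube, map_one]
  convert h using 1
  · rfl
  rw [conj_cube h3, pow_two]
  simp only [map_mul, map_inv]
  group

theorem holds_tt : Holds R.ψ R.t ([cone, cone], cone) :=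
  ⟨_, 1, ((LVal.nil (ψ := R.ψ) (u := R.t)).cons cd_one).cons cd_one, cd_one, by simp [R.tt]⟩

theorem holds_line : Holds R.ψ R.t (cubeLetters eLine, cone) :=
  ⟨_, 1, lval_cube R cd_line, cd_one, by rw [R.line, map_one]⟩

theorem holds_last : Holds R.ψ R.t
    ([eFour, cmul eFour (cinv eLast), cmul eFour eFour, cmul (cmul eFour eFour) (cinv eLast)],
      cinv (cmul eFour eFour)) := by
  refine ⟨_, (TrioSystem.gFour * TrioSystem.gFour)⁻¹,
    ((((LVal.nil (ψ := R.ψ) (u := R.t)).cons ((cd_four.mul cd_four).mul cd_last.inv)).cons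
      (cd_four.mul cd_four)).cons (cd_four.mul cd_last.inv)).cons cd_four,
    (cd_four.mul cd_four).inv, ?_⟩
  have h := R.last
  rw [pow_two] at h
  rw [map_inv]
  refine eq_inv_of_mul_eq_one_left ?_
  refine Eq.trans ?_ h
  simp only [map_mul, map_inv]
  group

theorem holds_base : ∀ I ∈ baseT, Holds R.ψ R.t I := by
  intro I hI
  simp only [baseT, List.mem_cons, List.not_mem_nil, or_false] at hI
  rcases hI with rfl | rfl | rfl
  exacts [holds_tt R, holds_line R, holds_last R]

theorem lval_v : LVal R.ψ R.t vLetters R.v := by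
  have h := lval_cube R cd_trans
  convert h using 1
  · rfl
  show (R.ψ gy * (R.ψ gTrans)⁻¹ * R.t * R.ψ gTrans) ^ 3 = _
  simp only [mul_assoc]

theorem fixW_comm : ∀ e g, Cd e g → fixW e = true → R.ψ g * R.t = R.t * R.ψ g :=
  fun _ g hg h => R.comm g (fixW_spec hg h)

end

end Trans

end Cfsg.Agent.J4Bound
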